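import Cfsg.Agent.HQ.A

/-! # Standard subgroups `2².L3(4)`: coordinates -/

set_option autoImplicit false
set_option linter.unusedVariables false
set_option linter.unusedSectionVars false
set_option maxRecDepth 100000

namespace Cfsg.Agent.HQ
open Subgroup Cfsg.Agent.Spor Cfsg.Agent.Spor.OnD Cfsg.Agent.H8On Cfsg.Agent.BG Cfsg.Agent.Inv
open Cfsg.Agent.SO (Ac cr cr_apply cr_range ac_inn ac_K ac_of_K N_le_NC' mem_K β_xor β_inj idx_cen)

variable {G : Type*} [Group G]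

/-- `ρ.range = 2².L3(4)` is a standard subgroup -/
structure Sd (ρ : U →* G) : Prop where
  ker : ∀ x, ρ x = 1 ↔ ∃ c ∈ center U, x = c * c
  act : ∀ g ∈ N[ρ.range], ∃ α : MulAut U, ∀ y, g * ρ y * g⁻¹ = ρ (α y)
  ti : ∀ u ∈ C[ρ.range], orderOf u = 2 → ∀ g, g * u * g⁻¹ ∈ C[ρ.range] → g ∈ N[ρ.range]

noncomputable def nr (a i j : ℕ) : U := τ a * (z ^ i * k ^ j)
noncomputable def uu (n : ℕ) : U := nr (n % 64) (n / 64) (n / 128)
/-- the element of `T` with code `n` -/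
noncomputable def ee (ρ : U →* G) (n : ℕ) : G := ρ (uu n)
/-- the Sylow 2-subgroup `T = {ee ρ n | n < 256}` of `L` -/
noncomputable def TT (ρ : U →* G) : Subgroup G := ρ.range ⊓ C1[ee ρ 16]
/-- the centre `Z = {ee ρ 0, ee ρ 64, ee ρ 128, ee ρ 192}` of `L` -/
def ZZ (M : Subgroup G) : Subgroup G := M ⊓ C[M]
/-- `g ∈ M C(M)` -/
def In (M : Subgroup G) (g : G) : Prop := ∃ l ∈ M, l⁻¹ * g ∈ C[M]

variable {g g' : G} {ρ : U →* G} {b d d' n m : ℕ} {x x' : U}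

theorem ee_cr (g : G) (ρ : U →* G) (n : ℕ) : ee (cr g ρ) n = g * ee ρ n * g⁻¹ := rfl
theorem ee_mem (ρ : U →* G) (n : ℕ) : ee ρ n ∈ ρ.range := ⟨_, rfl⟩
theorem uu_lt (hb : b < 64) : uu b = τ b := by
  rw [uu, nr, Nat.mod_eq_of_lt hb, Nat.div_eq_of_lt hb, Nat.div_eq_of_lt (by omega)]; simp
theorem ee_lt (ρ : U →* G) (hb : b < 64) : ee ρ b = ρ (τ b) := by rw [ee, uu_lt hb]
theorem ee_zero (ρ : U →* G) : ee ρ 0 = 1 := by rw [ee_lt ρ (by omega), τ_zero, map_one]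
theorem ee_64 (ρ : U →* G) : ee ρ 64 = ρ z := by simp [ee, uu, nr, τ_zero]
theorem zk_cen (i j : ℕ) : z ^ i * k ^ j ∈ center U := mul_mem (pow_mem z_cen _) (pow_mem k_cen _)
theorem π_nr (a i j : ℕ) : π (nr a i j) = π (τ a) := by rw [nr, map_mul, π_eq_one.2 (zk_cen _ _), mul_one]
theorem π_uu (n : ℕ) : π (uu n) = π (τ (n % 64)) := π_nr _ _ _
theorem zk_mul (i j i' j' : ℕ) : z ^ i * k ^ j * (z ^ i' * k ^ j') = z ^ (i + i') * k ^ (j + j') := by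
  rw [mul_assoc, ← mul_assoc (k ^ j), mem_center_iff.1 (pow_mem z_cen i') (k ^ j), pow_add, pow_add]
  simp only [mul_assoc]
theorem zk_pow (i j s : ℕ) : (z ^ i * k ^ j) ^ s = z ^ (i * s) * k ^ (j * s) := by
  induction s with
  | zero => simp
  | succ s ih => rw [pow_succ, ih, zk_mul, Nat.mul_succ, Nat.mul_succ]
theorem nr_zk (a i j i' j' : ℕ) : nr a i j * (z ^ i' * k ^ j') = nr a (i + i') (j + j') := by
  rw [nr, nr, mul_assoc, zk_mul]
theorem eU_nr (r : ℕ) : eU r = nr (r % 64) (r / 64 % 4) (r / 64 / 4) := rfl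
theorem In.ac (h : In ρ.range g) : ∃ x, Ac ρ g x 0 := by
  obtain ⟨_, ⟨x, rfl⟩, q⟩ := h
  exact ⟨x, ac_of_K q⟩
theorem in_of_ac (h : Ac ρ g x 0) : In ρ.range g := ⟨_, ⟨x, rfl⟩, h.K⟩
theorem in_of_L {M : Subgroup G} (h : g ∈ M) : In M g := ⟨g, h, by simp⟩
theorem in_of_K {M : Subgroup G} (h : g ∈ C[M]) : In M g := ⟨1, one_mem _, by simpa using h⟩
theorem In.mul (h : In ρ.range g) (h' : In ρ.range g') : In ρ.range (g * g') := by
  obtain ⟨x, q⟩ := h.ac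
  obtain ⟨x', q'⟩ := h'.ac
  exact in_of_ac (q.mul q' (by omega) (by omega))
theorem K_le_N (M : Subgroup G) : C[M] ≤ N[M] := centralizer_le_normalizer _
theorem In.N {M : Subgroup G} (h : In M g) : g ∈ N[M] := by
  obtain ⟨l, i, q⟩ := h
  simpa using mul_mem (normG M i) (K_le_N M q)
theorem In.cj {M : Subgroup G} (h : In M g) {a : G} (ha : a ∈ N[M]) : In M (a * g * a⁻¹) := by
  obtain ⟨l, i, q⟩ := h
  refine ⟨a * l * a⁻¹, conj_mem ha i, ?_⟩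
  have := conj_mem (N_le_NC' ha) q
  convert this using 1; group
theorem ZZ_cj {M : Subgroup G} {a : G} (ha : a ∈ N[M]) (h : g ∈ ZZ M) : a * g * a⁻¹ ∈ ZZ M :=
  ⟨conj_mem ha h.1, conj_mem (N_le_NC' ha) h.2⟩
theorem mem_cr {a : G} : a ∈ (cr g ρ).range ↔ g⁻¹ * a * g ∈ ρ.range := by rw [cr_range]; exact mem_cj
theorem mem_K_cr {a : G} : a ∈ C[(cr g ρ).range] ↔ g⁻¹ * a * g ∈ C[ρ.range] := by
  rw [cr_range, ← cj_C]; exact mem_cj
theorem mem_N_cr {a : G} : a ∈ N[(cr g ρ).range] ↔ g⁻¹ * a * g ∈ N[ρ.range] := by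
  rw [cr_range, ← cj_N]; exact mem_cj
theorem cr_range_N (h : g ∈ N[ρ.range]) : (cr g ρ).range = ρ.range := by rw [cr_range, cj_of_mem_N h]
theorem cr_cr (g g' : G) (ρ : U →* G) : cr g (cr g' ρ) = cr (g * g') ρ := by
  ext y; simp only [cr_apply]; group

theorem aut_U (α : MulAut U) : ∃ x : U, ∃ d < 12, ∀ y, α y = x * β d y * x⁻¹ := by
  obtain ⟨a, ha⟩ := exists_ind π_surj π_ker α
  obtain ⟨x, d, hd, h⟩ := aut_L a
  exact ⟨x, d, hd, lift_eq π_ker (by rw [card_cen]; norm_num) (f := α.toMonoidHom)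
    (g := (MulAut.conj x * β d).toMonoidHom) fun y => by simpa [← ha] using h y⟩

theorem invU (h : π x * π x = 1) (h1 : π x ≠ 1) : ∃ v, ∃ b < 64, ∃ n, b ≠ 0 ∧ tm b b % 64 = 0 ∧
    v * x * v⁻¹ = τ b * zel n := by
  obtain ⟨P, hP⟩ := syl_exists Nat.prime_two (centralizer ({π (τ 16)} : Set L))
  have hP' : Syl 2 P ⊤ := hP.trans' le_top (by rw [relIndex_top_right, idx_cen, pin_compl Nat.prime_two]; omega)
  obtain ⟨c, -, q⟩ := Syl.cj_sub hP' Nat.prime_two (le_top (a := zpowers (π x)))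
    (pig_zpowers.2 (pie_of_pow Nat.prime_two (by rwa [pow_two])))
  obtain ⟨v, rfl⟩ := π_surj c
  have := mem_centralizer_singleton_iff.1 (hP.1 (q (mem_cj_conj.2 (mem_zpowers _))))
  rw [← map_inv, ← map_mul, ← map_mul] at this
  obtain ⟨b, hb, n, e⟩ := cenU this
  have e' : π v * π x * (π v)⁻¹ = π (τ b) := by
    rw [← map_inv, ← map_mul, ← map_mul, e, map_mul, π_eq_one.2 (zel_cen n), mul_one]
  refine ⟨v, b, hb, n, ?_, τ_inj (Nat.mod_lt _ (by omega)) (by omega) ?_, e⟩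
  · rintro rfl
    rw [τ_zero, map_one] at e'
    exact h1 (by simpa using e')
  · rw [← π_eU, ← τ_mul hb hb, map_mul, ← e', conj_mul, h, τ_zero]; simp

namespace Sd
variable (h : Sd ρ)
include h

theorem ker' (q : ρ x = 1) : x ∈ center U := by
  obtain ⟨c, i, rfl⟩ := (h.ker x).1 q
  exact mul_mem i i
theorem z2 : ρ z ^ 2 = 1 := by rw [← map_pow]; exact (h.ker _).2 ⟨z, z_cen, pow_two _⟩
theorem k2 : ρ k ^ 2 = 1 := by rw [← map_pow]; exact (h.ker _).2 ⟨k, k_cen, pow_two _⟩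
theorem nr_eq (a : ℕ) {i j i' j' : ℕ} (e1 : i % 2 = i' % 2) (e2 : j % 2 = j' % 2) :
    ρ (nr a i j) = ρ (nr a i' j') := by
  simp only [nr, map_mul, map_pow]
  rw [pow_eq_pow_mod i h.z2, pow_eq_pow_mod j h.k2, e1, e2, ← pow_eq_pow_mod _ h.z2, ← pow_eq_pow_mod _ h.k2]
theorem ee_nr {a i j : ℕ} (e0 : n % 64 = a) (e1 : n / 64 % 2 = i % 2) (e2 : n / 128 % 2 = j % 2) :
    ee ρ n = ρ (nr a i j) := by rw [ee, uu, e0]; exact h.nr_eq _ e1 e2
theorem ee_mod (n : ℕ) : ee ρ (n % 256) = ee ρ n := h.ee_nr (by omega) (by omega) (by omega)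
theorem ee_128 : ee ρ 128 = ρ k := by rw [h.ee_nr (a := 0) (i := 0) (j := 1) rfl rfl rfl]; simp [nr, τ_zero]
theorem faith {i j : ℕ} (q : ρ (z ^ i * k ^ j) = 1) : i % 2 = 0 ∧ j % 2 = 0 := by
  obtain ⟨c, hc, e⟩ := (h.ker _).1 q
  obtain ⟨s, hs, rfl⟩ := cen_zel hc
  rw [zel, zk_mul] at e
  have f : ∀ i j, z ^ i * k ^ j = zel (i % 4 + 4 * (j % 4)) := fun i j => by
    rw [zel, pow_eq_pow_mod i z4, pow_eq_pow_mod j k4]; congr 2 <;> omega
  rw [f, f] at e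
  have := zel_inj (by omega) (by omega) e
  omega
theorem mul (n m : ℕ) : ee ρ (μ n m) = ee ρ n * ee ρ m := by
  rw [← h.ee_mod n, ← h.ee_mod m, μ_eq]
  have hn := Nat.mod_lt n (show 256 > 0 by omega)
  have hm := Nat.mod_lt m (show 256 > 0 by omega)
  generalize n % 256 = n at *
  generalize m % 256 = m at *
  have l := fun n => Nat.mod_lt n (show 64 > 0 by omega)
  have e := c_μ hn hm
  have : uu n * uu m = nr (tm (n % 64) (m % 64) % 64) (tm (n % 64) (m % 64) / 64 % 4 + (n / 64 + m / 64))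
      (tm (n % 64) (m % 64) / 64 / 4 + (n / 128 + m / 128)) := by
    rw [← nr_zk, ← eU_nr, ← τ_mul (l n) (l m), ← zk_mul, uu, uu, nr, nr]
    simp only [mul_assoc]
    rw [← mul_assoc (z ^ _) (k ^ _) (τ _ * _), ← mul_assoc _ (τ (m % 64)), ← mem_center_iff.1 (zk_cen _ _)]
    simp only [mul_assoc]
  refine (h.ee_nr (by omega) (by omega) (by omega)).trans (this ▸ map_mul ρ _ _)
theorem π_eq {x y : U} (q : ρ x = ρ y) : π x = π y := by
  have := π_eq_one.2 (h.ker' (x := y⁻¹ * x) (by rw [map_mul, map_inv, q, inv_mul_cancel]))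
  rwa [map_mul, map_inv, inv_mul_eq_one, eq_comm] at this
theorem mod (q : ee ρ n = ee ρ m) : n % 64 = m % 64 := by
  have := h.π_eq q
  rw [π_uu, π_uu] at this
  exact τ_inj (Nat.mod_lt _ (by omega)) (Nat.mod_lt _ (by omega)) this
theorem inj (hn : n < 256) (hm : m < 256) (q : ee ρ n = ee ρ m) : n = m := by
  have a := h.mod q
  rw [ee, ee, uu, uu, a, nr, nr, map_mul, map_mul ρ (τ _), mul_left_cancel_iff] at q
  have := h.faith (i := n / 64 + m / 64) (j := n / 128 + m / 128) (by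
    rw [← zk_mul, map_mul, q, ← map_mul, zk_mul]
    simpa [nr, τ_zero] using h.nr_eq 0 (i := m / 64 + m / 64) (j := m / 128 + m / 128) (i' := 0) (j' := 0)
      (by omega) (by omega))
  omega
theorem ne1 (hn : n < 256) (h0 : n ≠ 0) : ee ρ n ≠ 1 := fun q => h0 (h.inj hn (by omega) (q.trans (ee_zero ρ).symm))
theorem iv (n : ℕ) : ee ρ (iv n) = (ee ρ n)⁻¹ := by
  have : HQ.iv (n % 256) = HQ.iv n := by unfold HQ.iv; congr 1; exact Nat.mod_mod _ _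
  refine eq_inv_of_mul_eq_one_right ?_
  rw [← h.ee_mod n, ← this, ← h.mul, c_iv _ (Nat.mod_lt _ (by omega)), ee_zero]
theorem cm (n m : ℕ) : ee ρ (cm n m) = ee ρ n * ee ρ m * (ee ρ n)⁻¹ * (ee ρ m)⁻¹ := by
  rw [HQ.cm, h.mul, h.iv, h.mul, h.mul]; group
theorem comm (q : μ n m = μ m n) : ee ρ n * ee ρ m = ee ρ m * ee ρ n := by rw [← h.mul, q, h.mul]
theorem comm' (q : ee ρ n * ee ρ m = ee ρ m * ee ρ n) : μ n m = μ m n :=
  h.inj (μ_lt _ _) (μ_lt _ _) (by rw [h.mul, q, h.mul])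
theorem sq0 (q : μ n n = 0) : ee ρ n * ee ρ n = 1 := by rw [← h.mul, q, ee_zero]
theorem sq0' (q : ee ρ n * ee ρ n = 1) : μ n n = 0 := h.inj (μ_lt _ _) (by omega) (by rw [h.mul, q, ee_zero])
theorem o2 (hn : n < 256) (h0 : n ≠ 0) (q : μ n n = 0) : orderOf (ee ρ n) = 2 := ord2_iff.2 ⟨h.sq0 q, h.ne1 hn h0⟩
theorem ρ_eU (r : ℕ) : ρ (eU r) = ee ρ (r % 64 + 64 * (r / 64 % 2) + 128 * (r / 256 % 2)) :=
  (h.ee_nr (by omega) (by omega) (by omega)).symm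
theorem ρ_zel (s : ℕ) : ρ (zel s) = ee ρ (64 * (s % 2) + 128 * (s / 4 % 2)) := by
  rw [h.ee_nr (a := 0) (i := s % 4) (j := s / 4) (by omega) (by omega) (by omega), nr, τ_zero, one_mul, zel]
theorem bt (hd : d < 4) (n : ℕ) : ρ (β d (uu n)) = ee ρ (bt d n) := by
  have e0 : ρ (β d (uu n)) = ρ (β d (uu (n % 256))) := by
    have : ρ (uu n * (uu (n % 256))⁻¹) = 1 := by rw [map_mul, map_inv]; exact mul_inv_eq_one.2 (h.ee_mod n).symm
    obtain ⟨c, i, e⟩ := (h.ker _).1 this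
    have := (h.ker (β d (c * c))).2 ⟨_, aut_cen _ i, map_mul _ _ _⟩
    rwa [← e, map_mul, map_mul, map_inv, map_inv, mul_inv_eq_one] at this
  have e1 : HQ.bt d n = HQ.bt d (n % 256) := by unfold HQ.bt; congr 2; exact (Nat.mod_mod _ _).symm
  rw [e0, e1]
  have hn := Nat.mod_lt n (show 256 > 0 by omega)
  generalize n % 256 = n at *
  rcases Nat.eq_zero_or_pos d with rfl | h0
  · rw [β_zero, c_bt0 n hn]; rfl
  · have e := c_bt d hd h0 n hn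
    rw [uu, nr, map_mul (β d), map_mul (β d), β_τ ⟨h0, hd⟩ (Nat.mod_lt _ (by omega)), map_pow, map_pow,
      β_z (by omega), β_k (by omega), zel, zel, zk_pow, zk_pow, zk_mul, eU_nr, nr_zk]
    exact (h.ee_nr (by omega) (by omega) (by omega)).symm
theorem al (q : Ac ρ g (τ b) d) (hb : b < 64) (hd : d < 4) (n : ℕ) :
    g * ee ρ n * g⁻¹ = ee ρ (al b d n) := by
  rw [ee, q, map_mul, map_mul, map_inv, h.bt hd, HQ.al, h.mul, h.mul, h.iv, ee_lt ρ hb]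
theorem uniq (q : Ac ρ g x d) (q' : Ac ρ g x' d') (hd : d < 4) (hd' : d' < 4) : d = d' ∧ π x = π x' :=
  β_inj hd hd' fun y => h.π_eq ((q y).symm.trans (q' y))
theorem sqac (q : Ac ρ g (τ b) d) (hb : b < 64) (hd : d < 4) : Ac ρ (g * g) (uu (sqc b d)) 0 := by
  have a := q.mul q hd hd
  rw [Nat.xor_self] at a
  have : ρ (τ b * β d (τ b)) = ρ (uu (sqc b d)) := by
    rw [map_mul, ← uu_lt hb, h.bt hd]; exact (h.mul _ _).symm
  exact ac_of_K (this ▸ a.K)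
theorem sq (q : Ac ρ g (τ b) d) (hb : b < 64) (hd : d < 4) (q' : Ac ρ (g * g) (uu n) 0) :
    sqc b d % 64 = n % 64 := by
  have c := (h.uniq (h.sqac q hb hd) q' (by omega) (by omega)).2
  rw [π_uu, π_uu] at c
  exact τ_inj (Nat.mod_lt _ (by omega)) (Nat.mod_lt _ (by omega)) c
theorem sq1 (q : Ac ρ g (τ b) d) (hb : b < 64) (hd : d < 4) (q' : g * g ∈ C[ρ.range]) :
    sqc b d % 64 = 0 := h.sq (n := 0) q hb hd (by rw [uu_lt (by omega), τ_zero]; exact ac_K q')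
theorem in_iff (q : Ac ρ g x d) (hd : d < 4) : In ρ.range g ↔ d = 0 :=
  ⟨fun i => by obtain ⟨y, i⟩ := i.ac; exact (h.uniq q i hd (by omega)).1, fun e => in_of_ac (e ▸ q)⟩
theorem act' (hg : g ∈ N[ρ.range]) : ∃ x, ∃ d < 12, Ac ρ g x d := by
  obtain ⟨α, q⟩ := h.act g hg
  obtain ⟨x, d, hd, e⟩ := aut_U α
  exact ⟨x, d, hd, fun y => by rw [q, e]⟩
theorem acz (q : Ac ρ g x d) (hd : d < 12) :
    g * ee ρ 64 * g⁻¹ = ee ρ (za d) ∧ g * ee ρ 128 * g⁻¹ = ee ρ (ka d) := by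
  rw [ee_64, h.ee_128, q, q, mem_center_iff.1 (aut_cen _ z_cen), mem_center_iff.1 (aut_cen _ k_cen),
    mul_inv_cancel_right, mul_inv_cancel_right, β_z hd, β_k hd, h.ρ_zel, h.ρ_zel]
  exact ⟨rfl, rfl⟩
theorem acz' (q : Ac ρ g x d) (hd : d < 12) (hn : n < 256) (hm : m < 256) (q1 : g * ee ρ 64 * g⁻¹ = ee ρ n)
    (q2 : g * ee ρ 128 * g⁻¹ = ee ρ m) : za d = n ∧ ka d = m :=
  ⟨h.inj (by unfold za; omega) hn ((h.acz q hd).1.symm.trans q1),
    h.inj (by unfold ka; omega) hm ((h.acz q hd).2.symm.trans q2)⟩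
theorem βa (hd : d < 4) : β d (τ 16) = τ 16 := by
  rcases Nat.eq_zero_or_pos d with rfl | h0
  exacts [β_zero _, β_u ⟨h0, hd⟩]
theorem std (q : Ac ρ g x d) (hd : d < 4) (q' : g * ee ρ 16 * g⁻¹ = ee ρ n) (hn : n % 64 = 16) :
    ∃ b < 64, Ac ρ g (τ b) d := by
  rw [ee_lt ρ (by omega), q, h.βa hd] at q'
  have := h.π_eq q'
  rw [π_uu, hn, map_mul, map_mul, map_inv, mul_inv_eq_iff_eq_mul] at this
  obtain ⟨b, hb, n, rfl⟩ := cenU this
  exact ⟨b, hb, by simpa using q.cen (inv_mem (zel_cen n))⟩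
/-- F2: an element of `N` centralising `Z` and `W / Z` lies in `T K` -/
theorem F2 (hg : g ∈ N[ρ.range]) (q1 : g * ee ρ 64 * g⁻¹ = ee ρ 64) (q2 : g * ee ρ 128 * g⁻¹ = ee ρ 128)
    (q3 : g * ee ρ 16 * g⁻¹ = ee ρ n) (hn : n % 64 = 16) (q4 : g * ee ρ 32 * g⁻¹ = ee ρ m) (hm : m % 64 = 32) :
    ∃ b < 64, Ac ρ g (τ b) 0 := by
  obtain ⟨x, d, hd, q⟩ := h.act' hg
  have := h.acz' q hd (by omega) (by omega) q1 q2
  rcases c_za d hd this.1 this.2 with rfl | rfl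
  · exact h.std q (by omega) q3 hn
  · obtain ⟨b, hb, q⟩ := h.std q (by omega) q3 hn
    have := h.mod ((h.al q hb (by omega) 32).symm.trans q4)
    rw [c_32 b hb] at this; omega
theorem code0 (q : Ac ρ g (τ b) 0) (hg : g ∈ ρ.range) (hb : b < 64) : ∃ n < 256, n % 64 = b ∧ g = ee ρ n := by
  obtain ⟨y, rfl⟩ := hg
  have := (h.uniq q (ac_inn ρ y) (by omega) (by omega)).2
  obtain ⟨n, -, c⟩ := cen_zel (x := (τ b)⁻¹ * y) (π_eq_one.1 (by rw [map_mul, map_inv, this, inv_mul_cancel]))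
  refine ⟨b + 64 * (n % 2) + 128 * (n / 4 % 2), by omega, by omega, ?_⟩
  rw [h.ee_nr (a := b) (i := n % 4) (j := n / 4) (by omega) (by omega) (by omega), nr, ← zel, c,
    mul_inv_cancel_left]
theorem mem_TT : g ∈ TT ρ ↔ ∃ n < 256, g = ee ρ n := by
  constructor
  · rintro ⟨⟨y, rfl⟩, i⟩
    obtain ⟨b, hb, q⟩ := h.std (ac_inn ρ y) (by omega) (n := 16) (by rw [mem_C1.1 i]; simp) rfl
    obtain ⟨n, hn, -, c⟩ := h.code0 q ⟨y, rfl⟩ hb
    exact ⟨n, hn, c⟩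
  · rintro ⟨n, hn, rfl⟩
    exact ⟨ee_mem ρ n, mem_C1.2 (h.comm (c_16 n hn))⟩
theorem ee_TT (n : ℕ) : ee ρ n ∈ TT ρ := h.mem_TT.2 ⟨n % 256, Nat.mod_lt _ (by omega), (h.ee_mod n).symm⟩
theorem ee_K (hn : n % 64 = 0) : ee ρ n ∈ C[ρ.range] := mem_K.2 fun y => by
  rw [ee, uu, hn, nr, τ_zero, one_mul, ← map_mul, ← map_mul, mem_center_iff.1 (zk_cen _ _)]
theorem mem_ZZ : g ∈ ZZ ρ.range ↔ ∃ n < 256, n % 64 = 0 ∧ g = ee ρ n :=
  ⟨fun i => h.code0 (b := 0) (ac_K i.2) i.1 (by omega), by rintro ⟨n, -, hn, rfl⟩; exact ⟨ee_mem ρ n, h.ee_K hn⟩⟩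
theorem ee_ZZ (hn : n % 64 = 0) : ee ρ n ∈ ZZ ρ.range := ⟨ee_mem ρ n, h.ee_K hn⟩
theorem eeK (q : ee ρ n ∈ C[ρ.range]) : n % 64 = 0 := by
  obtain ⟨m, -, hm, c⟩ := h.mem_ZZ.1 ⟨ee_mem ρ n, q⟩
  rw [h.mod c, hm]
theorem ZZ_sq (hg : g ∈ ZZ ρ.range) : g * g = 1 := by
  obtain ⟨m, hm, e, rfl⟩ := h.mem_ZZ.1 hg
  exact h.sq0 ((by decide +kernel : ∀ m < 256, m % 64 = 0 → μ m m = 0) m hm e)
/-- an involution of `K` has its centraliser in `N` -/
theorem cenN {u : G} (hu : u ∈ C[ρ.range]) (h2 : orderOf u = 2) (q : g * u = u * g) : g ∈ N[ρ.range] :=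
  h.ti u hu h2 g (by rwa [q, mul_inv_cancel_right])
theorem cj (g : G) : Sd (cr g ρ) := by
  refine ⟨fun x => by rw [← h.ker, cr_apply]; simp, fun a i => ?_,
    fun u i j y l => mem_N_cr.2 (h.ti _ (mem_K_cr.1 i) (by rw [orderOf_conj'', j]) _
      (by convert mem_K_cr.1 l using 1; group))⟩
  obtain ⟨α, q⟩ := h.act _ (mem_N_cr.1 i)
  exact ⟨α, fun y => by rw [cr_apply, cr_apply, ← q]; group⟩
/-- TI: if `y ∉ N`, then `K` and `K^y` share no involution -/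
theorem ti' {y u : G} (hy : y ∉ N[ρ.range]) (h1 : u ∈ C[ρ.range]) (h2 : u ∈ C[(cr y ρ).range]) (q : u * u = 1) :
    u = 1 := by
  by_contra n
  exact hy (h.ti _ (mem_K_cr.1 h2) (by rw [orderOf_conj'']; exact ord2_iff.2 ⟨q, n⟩) y (by simpa [mul_assoc] using h1))
theorem comp (α : MulAut U) : Sd (ρ.comp α.toMonoidHom) ∧ (ρ.comp α.toMonoidHom).range = ρ.range := by
  have e : (ρ.comp α.toMonoidHom).range = ρ.range := by
    rw [MonoidHom.range_comp, MonoidHom.range_eq_top.2 α.surjective, ← MonoidHom.range_eq_map]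
  refine ⟨⟨fun x => (h.ker (α x)).trans ⟨?_, ?_⟩, fun g i => ?_, by rw [e]; exact h.ti⟩, e⟩
  · rintro ⟨c, i, q⟩
    exact ⟨α⁻¹ c, aut_cen _ i, by rw [← map_mul, ← q]; simp⟩
  · rintro ⟨c, i, rfl⟩
    exact ⟨α c, aut_cen _ i, map_mul _ _ _⟩
  · obtain ⟨γ, q⟩ := h.act g (e ▸ i)
    exact ⟨α⁻¹ * γ * α, fun y => by simpa using q (α y)⟩

/-- F3: inner involutions are `L`-conjugate to the standard one -/
theorem inn (q : In ρ.range g) (h2 : g * g = 1) (hK : g ∉ C[ρ.range]) :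
    ∃ l ∈ ρ.range, Ac ρ (l * g * l⁻¹) (τ 16) 0 := by
  obtain ⟨x, q⟩ := q.ac
  have a := q.mul q (by omega) (by omega)
  rw [h2, β_zero] at a
  have a1 := (h.uniq a (ac_K (one_mem _)) (by decide) (by omega)).2
  rw [map_mul, map_one] at a1
  obtain ⟨v, b, hb, n, b0, s, e⟩ := invU a1 fun i => hK (by
    simpa using (show Ac ρ g 1 0 by simpa using q.cen (inv_mem (π_eq_one.1 i))).K)
  obtain ⟨v', n', -, -, e'⟩ := inv_conj' hb b0 s
  have a := ((ac_inn ρ (v' * v)).mul q (by omega) (by omega)).mul (ac_inn ρ (v' * v)⁻¹) (by decide) (by omega)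
  simp only [β_zero, Nat.xor_self, map_inv] at a
  have e2 : v' * v * x * (v' * v)⁻¹ = τ 16 * (zel n' * zel n) := by
    calc _ = v' * (v * x * v⁻¹) * v'⁻¹ := by group
      _ = v' * τ b * v'⁻¹ * zel n := by
        rw [e, mul_assoc, mul_assoc, ← mem_center_iff.1 (zel_cen n)]; group
      _ = _ := by rw [e', mul_assoc]
  rw [e2] at a
  have a := a.cen (inv_mem (mul_mem (zel_cen n') (zel_cen n)))
  rw [mul_inv_cancel_right] at a
  exact ⟨_, ⟨v' * v, rfl⟩, a⟩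
/-- noncentral involutions of `T` up to conjugacy in `L` -/
theorem invT (hn : n < 256) (h0 : n % 64 ≠ 0) (q : μ n n = 0) :
    ∃ l ∈ ρ.range, l * ee ρ n * l⁻¹ = ee ρ (16 + 64 * (n / 64)) := by
  obtain ⟨v, s, s1, s2, e⟩ := inv_conj' (Nat.mod_lt n (by omega)) h0
    ((by decide +kernel : ∀ n < 256, μ n n = 0 → tm (n % 64) (n % 64) % 64 = 0) n hn q)
  refine ⟨ρ v, ⟨v, rfl⟩, ?_⟩
  rw [ee, ← map_inv, ← map_mul, ← map_mul, uu, nr, ← mul_assoc, mul_assoc _ _ v⁻¹,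
    ← mem_center_iff.1 (zk_cen _ _), ← mul_assoc, e, zel, ← nr, nr_zk]
  exact (h.ee_nr (by omega) (by omega) (by omega)).symm

end Sd
end Cfsg.Agent.HQ
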