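import Cfsg.Agent.HQ.B

/-! # Standard subgroups `2².L3(4)`: normal forms, interfaces -/

set_option autoImplicit false
set_option linter.unusedVariables false
set_option linter.unusedSectionVars false
set_option maxRecDepth 100000
set_option synthInstance.maxSize 100000
set_option synthInstance.maxHeartbeats 400000

namespace Cfsg.Agent.HQ
open Subgroup Cfsg.Agent.Spor Cfsg.Agent.Spor.OnD Cfsg.Agent.H8On Cfsg.Agent.BG Cfsg.Agent.Inv
open Cfsg.Agent.SO (Ac cr cr_apply cr_range ac_inn ac_K ac_of_K N_le_NC' mem_K β_xor β_inj idx_cen)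

variable {G : Type*} [Group G]

def TN : Nat := 0x3feeedec3b3a595887e685848352e1309f2e2d2c9b2af9f89796f5942392f140cf1e1d1c1b1a7978c71675c47312c1a0bfde6ddc0b6ad9d8d76605d4d3d2d1d08f5e5d5c8b8ae9e83756353433e251802f9e9d9c2b9a494827264524932241f07faeadacabaac9c877a6c574c3a271100f6edd6cbbda696867d6b564636261605f8e8d8c5b5a3938e786e5e4e3328150ff4e4d4cfb4a9998f7f695f443f29120af7e7d7c7b7a1918a77615a41372a1c0dfbe0dbc6b0ab9b8b70665b4b3b2b1b0ef3e3d3cebea898857365554538231e04ffefdfc4bfa292847462544f34221901fcecdcccbcaa9a817c6a514a3c211706f0ebd0cdbba090807b6d50403020100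
def TA : Nat := 0xeaeb6968eeaf6d6c66e7e564626361603afb7978feff7d7cf677f574727371709adb5958de1f5d5c9617d554525351508a8b89480e0f0d4c0687c544424341402a2ba9a82e6fadaca62725a4a2a3a1a0fa3bb9b83e3fbdbc36b735b4b2b3b1b05a1b99981edf9d9c56d71594929391904a4b4988cecfcd8cc6470584828381806a6be9e86e2fedece66765e4e2e3e1e0ba7bf9f87e7ffdfc76f775f4f2f3f1f01a5bd9d85e9fdddc169755d4d2d3d1d00a0b09c88e8f8dcc860745c4c2c3c1c0aaab2928aeef2d2c26a7a524222321207abb3938bebf3d3cb637b53432333130da9b19189e5f1d1cd657951412131110cacbc9084e4f4d0c46c78504020301003e4f8dccfafba9a896c715549263c1f04eafedec0aab999806479544a243d1702e1fdddcdadb8988661745648253e1b0ae3f5dfc4a5bb9b8f697c574b273f1309e2f6d6c9a9bc9c83627b5b472c3a1d0eecf0d4cea8bf9f8a6a735a442e3b1508ebf7d7cbabbe9e8c6f7e58462f381900e9ffd5caa3bd9d85677659452d391106e5f9d9c6a2b7978865705c4c2b351e01e7fbdbc1a7b494816d785d4f29341607e0fcd8cca4b5958768755f4d28371a0feef4dac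5acb6968e607d5e4e2a36120ceff3d3c8a0b191826b7a524221331c0bedf1d1c7a1b2928b637253412332140de6f2d2c2a6b3938d667f514322311805e8fad0c3aeb090846e7750402030100ab0a4948afeebdbcd70695d493f241600bfa79784f3e9d9cc78615c4b3c251e0bbda59581fdecd8cf7d645f483d271a03baad9688f5eadace756c5e4a3e261201b7af9f8df1e0d4ca7b625a4e342b150fb8ac9c8ffce6d6cb736a5b4c372a1d04b2ae9e86f2e7d7c8766f584f3628190cb5a69d83fae5d5c97e67594d35291107b1a99987fbeedec4716854443a2d1709b6aa9a85f6e8dcc579605546392c1f06bca89880f8edddc67c655645382e1b0eb3a09b89f0efdfc7746d57473b2f1308bea2928cf4e1d1c37a63534331221402b9a19182f9e3d3c2726b524132231c0dbba3938bf7e2d2c1776e514233211805b4ab908effe4d0c07f6650403020100fffefdfcfbfaf9f8f7f6f5f4f3f2f1f0efeeedecebeae9e8e7e6e5e4e3e2e1e0dfdedddcdbdad9d8d7d6d5d4d3d2d1d0cfcecdcccbcac9c8c7c6c5c4c3c2c1c0bfbebdbcbbbab9b8b7b6b5b4b3b2b1b0afaeadacabaaa9a8a7a6a5a4a3a2a1a09f9e9d9c9b9a999897969594939291908f8e8d8c8b8a898887868584838281807f7e7d7c7b7a797877767574737271706f6e6d6c6b6a696867666564636261605f5e5d5c5b5a595857565554535251504f4e4d4c4b4a494847464544434241403f3e3d3c3b3a393837363534333231302f2e2d2c2b2a292827262524232221201f1e1d1c1b1a191817161514131211100f0e0d0c0b0a09080706050403020100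
/-- `x · g ^ (bit i of e)` -/
noncomputable def mb (x g e i : Nat) : Nat := Bool.rec x (μ x g) (Nat.testBit e i)
noncomputable def ev8 (p q r s e : Nat) : Nat :=
  mb (mb (mb (mb (mb (mb (mb (mb 0 p e 0) q e 1) r e 2) s e 3) (cm p r) e 4) (cm p s) e 5) (cm q r) e 6) (cm q s) e 7
/-- the endomorphism of `T` with `1 ↦ p, 2 ↦ q, 4 ↦ r, 8 ↦ s` -/
noncomputable def Act (p q r s n : Nat) : Nat := frc (by8 TN (Nat.mod n 256)) fun e => ev8 p q r s e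
/-- table of `α₁ ^ (i % 2) α₂ ^ (i / 2)`, `i < 4`; `α₁ = Act 1 2 4 12`, `α₂ = Act 1 3 4 8` -/
def ac (i n : Nat) : Nat := by8 TA (Nat.add (Nat.mul 256 i) (Nat.mod n 256))
/-- multiplication of codes `< 1024` of `S = T⟨g₁, g₂⟩` -/
noncomputable def μS (n m : Nat) : Nat := frc n fun n => frc m fun m =>
  Nat.add (μ n (ac (Nat.div n 256) m)) (Nat.mul 256 (Nat.xor (Nat.div n 256) (Nat.div m 256)))
/-- codes of the conjugates of the involutions of `Z` in `T` -/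
def isX (n : ℕ) : Prop := n ≠ 0 ∧ μ n n = 0 ∧ (n < 64 ∨ n % 64 = 0)
noncomputable instance instDecX (n : ℕ) : Decidable (isX n) := by unfold isX; infer_instance
def V1 (p q : ℕ) : Prop := 0 < p ∧ p < 4 ∧ 0 < q ∧ q < 4 ∧ p ≠ q
instance instDecV1 (p q : ℕ) : Decidable (V1 p q) := by unfold V1; infer_instance
def V2 (p q : ℕ) : Prop := p % 4 = 0 ∧ q % 4 = 0 ∧ V1 (p / 4) (q / 4)
instance instDecV2 (p q : ℕ) : Decidable (V2 p q) := by unfold V2; infer_instance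

/-- `g` acts on `T` as `Act p q r s` -/
def Ax (ρ : U →* G) (g : G) (p q r s : ℕ) : Prop := ∀ n, g * ee ρ n * g⁻¹ = ee ρ (Act p q r s n)
/-- conjugate to an involution of `K` -/
def Tc (ρ : U →* G) (s : G) : Prop := ∃ u ∈ C[ρ.range], orderOf u = 2 ∧ IsConj u s

/-- the outcome of inner fusion -/
structure Sw (ρ : U →* G) (g : G) : Prop where
  sd : Sd ρ
  k2 : ∀ u ∈ C[ρ.range], PiE {2} u → u ∈ ρ.range
  nT : g ∈ N[TT ρ]
  sw1 : ∀ n < 256, n % 64 = 0 → ∃ m < 64, m % 16 = 0 ∧ g * ee ρ n * g⁻¹ = ee ρ m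
  sw2 : ∀ m < 64, m % 16 = 0 → ∃ n < 256, n % 64 = 0 ∧ g * ee ρ m * g⁻¹ = ee ρ n
  zl : ∀ y ∉ N[ρ.range], ∀ s ∈ C[(cr y ρ).range], orderOf s = 2 → In ρ.range s → ZZ (cr y ρ).range ≤ ρ.range
  x0 : ∀ n < 256, Tc ρ (ee ρ n) ↔ isX n

structure Ut (ρ : U →* G) (g a b : G) : Prop where
  sw : Sw ρ g
  aa : a * a = 1
  bb : b * b = 1
  ab : a * b = b * a
  a1 : ∀ n, a * ee ρ n * a⁻¹ = ee ρ (ac 1 n)
  a2 : ∀ n, b * ee ρ n * b⁻¹ = ee ρ (ac 2 n)

/-- the element of `S` with code `n < 1024` -/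
noncomputable def el (ρ : U →* G) (a b : G) (n : ℕ) : G := ee ρ n * (a ^ (n / 256) * b ^ (n / 512))
/-- `S = T⟨a, b⟩` -/
noncomputable def SS (ρ : U →* G) (a b : G) : Subgroup G := TT ρ ⊔ closure {a, b}

theorem c_ac1 : ∀ n < 256, Act 1 2 4 12 n = ac 1 n := by decide +kernel
theorem c_ac2 : ∀ n < 256, Act 1 3 4 8 n = ac 2 n := by decide +kernel
theorem c_ac0 : ∀ n < 256, Act 1 2 4 8 n = n ∧ ac 0 n = n ∧ ac 1 (ac 2 n) = ac 3 n := by decide +kernel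
theorem Act_mod (p q r s n : ℕ) : Act p q r s (n % 256) = Act p q r s n := by
  unfold Act; congr 2; exact Nat.mod_mod _ _
theorem ac_mod (i n : ℕ) : ac i (n % 256) = ac i n := by unfold ac; congr 2; exact Nat.mod_mod _ _
theorem ac_lt (i n : ℕ) : ac i n < 256 := by8_lt _ _

variable {g g' a b : G} {ρ ρ' : U →* G} {d n m p q r s : ℕ} {x : U}

theorem Tc.cj (h : Tc ρ a) (g : G) : Tc ρ (g * a * g⁻¹) := by
  obtain ⟨u, i, j, l⟩ := h
  exact ⟨u, i, j, l.trans (isConj_conj g a)⟩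

/-- a finite submonoid is a subgroup -/
def finSub {G : Type*} [Group G] [Finite G] (S : Set G) (h1 : 1 ∈ S) (hm : ∀ a ∈ S, ∀ b ∈ S, a * b ∈ S) :
    Subgroup G where
  carrier := S
  one_mem' := h1
  mul_mem' := fun i j => hm _ i _ j
  inv_mem' := fun {a} ha => by
    have : ∀ n, a ^ n ∈ S := fun n => by
      induction n with
      | zero => simpa using h1
      | succ n ih => rw [pow_succ]; exact hm _ ih _ ha
    have e : a⁻¹ = a ^ (orderOf a - 1) := inv_eq_of_mul_eq_one_right (by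
      rw [← pow_succ', Nat.sub_add_cancel (orderOf_pos a), pow_orderOf_eq_one])
    exact e ▸ this _

theorem exS : ∃ S : Subgroup (MulAut L), Syl 2 S ⊤ ∧
    ∀ a ∈ S, ∃ b < 64, ∃ d < 4, ∀ y, a (π y) = π (τ b * β d y * (τ b)⁻¹) := by
  haveI : Finite (MulAut L) := Nat.finite_of_card_ne_zero (by rw [factsL.2.2.1]; norm_num)
  let S := finSub {a : MulAut L | ∃ b < 64, ∃ d < 4, ∀ y, a (π y) = π (τ b * β d y * (τ b)⁻¹)}
    ⟨0, by omega, 0, by omega, fun y => by simp [τ_zero, β_zero]⟩ (by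
      rintro a ⟨b, hb, d, hd, q⟩ a' ⟨b', hb', d', hd', q'⟩
      obtain ⟨c, hc, e⟩ : ∃ c < 64, π (τ b * β d (τ b')) = π (τ c) := by
        rcases Nat.eq_zero_or_pos d with rfl | h0
        · exact ⟨_, Nat.mod_lt _ (by omega), by rw [β_zero, τ_mul hb hb', π_eU]⟩
        · exact ⟨_, Nat.mod_lt _ (by omega), by
            rw [map_mul, β_τ ⟨h0, hd⟩ hb', π_eU, ← map_mul, τ_mul hb (Nat.mod_lt _ (by omega)), π_eU]⟩
      refine ⟨c, hc, d ^^^ d', Nat.xor_lt_two_pow (n := 2) hd hd', fun y => ?_⟩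
      rw [MulAut.mul_apply, q', q, ← β_xor hd hd', map_mul π (τ c * _), map_mul π (τ c), map_inv, ← e]
      simp only [map_mul, map_inv]; group)
  refine ⟨S, ?_, fun a i => i⟩
  choose B hB using fun q : Fin 64 × Fin 4 => exists_ind π_surj π_ker (MulAut.conj (τ q.1) * β q.2)
  have c : Nat.card S = 2 ^ 8 := by
    refine (Nat.card_eq_of_bijective (fun q : Fin 64 × Fin 4 => (⟨B q, q.1, q.1.2, q.2, q.2.2, hB q⟩ : S))
      ⟨fun q q' e => ?_, ?_⟩).symm.trans (by simp)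
    · have := β_inj q.2.2 q'.2.2 (x := τ q.1) (x' := τ q'.1) fun y =>
        (hB q y).symm.trans ((congrArg (fun a : S => a.1 (π y)) e).trans (hB q' y))
      exact Prod.ext (Fin.ext (τ_inj q.1.2 q'.1.2 this.2)) (Fin.ext this.1)
    · rintro ⟨a, b, hb, d, hd, q⟩
      refine ⟨(⟨b, hb⟩, ⟨d, hd⟩), Subtype.ext (MulEquiv.ext fun l => ?_)⟩
      obtain ⟨y, rfl⟩ := π_surj l
      exact (hB _ y).trans (q y).symm
  refine syl_mk Nat.prime_two le_top (pig_of_card_pow Nat.prime_two c) ?_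
  have := S.card_mul_index
  rw [c, factsL.2.2.1] at this
  rw [relIndex_top_right]; omega

namespace Sd
variable (h : Sd ρ)
include h

theorem mb_cj {x y x' y' : ℕ} (h1 : g * ee ρ x * g⁻¹ = ee ρ x') (h2 : g * ee ρ y * g⁻¹ = ee ρ y') (e i : ℕ) :
    g * ee ρ (mb x y e i) * g⁻¹ = ee ρ (mb x' y' e i) := by
  unfold mb
  cases Nat.testBit e i
  · exact h1
  · show g * ee ρ (μ x y) * g⁻¹ = ee ρ (μ x' y')
    rw [h.mul, h.mul, ← h1, ← h2, conj_mul]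
theorem cm_cj {x y x' y' : ℕ} (h1 : g * ee ρ x * g⁻¹ = ee ρ x') (h2 : g * ee ρ y * g⁻¹ = ee ρ y') :
    g * ee ρ (HQ.cm x y) * g⁻¹ = ee ρ (HQ.cm x' y') := by
  rw [h.cm, h.cm, ← h1, ← h2]; group
theorem mb_mem {H : Subgroup G} {x y : ℕ} (h1 : ee ρ x ∈ H) (h2 : ee ρ y ∈ H) (e i : ℕ) : ee ρ (mb x y e i) ∈ H := by
  unfold mb
  cases Nat.testBit e i
  · exact h1
  · show ee ρ (μ x y) ∈ H
    rw [h.mul]; exact mul_mem h1 h2
theorem cm_mem {H : Subgroup G} {x y : ℕ} (h1 : ee ρ x ∈ H) (h2 : ee ρ y ∈ H) : ee ρ (HQ.cm x y) ∈ H := by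
  rw [h.cm]; exact mul_mem (mul_mem (mul_mem h1 h2) (inv_mem h1)) (inv_mem h2)
theorem ee_Act (n : ℕ) : ee ρ n = ee ρ (Act 1 2 4 8 n) := by
  rw [← Act_mod, (c_ac0 _ (Nat.mod_lt _ (by omega))).1, h.ee_mod]

theorem ax (h1 : g * ee ρ 1 * g⁻¹ = ee ρ p) (h2 : g * ee ρ 2 * g⁻¹ = ee ρ q) (h4 : g * ee ρ 4 * g⁻¹ = ee ρ r)
    (h8 : g * ee ρ 8 * g⁻¹ = ee ρ s) : Ax ρ g p q r s := fun n => by
  rw [h.ee_Act n, Act, Act, frc_eq, frc_eq]
  have z : g * ee ρ 0 * g⁻¹ = ee ρ 0 := by simp [ee_zero]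
  exact h.mb_cj (h.mb_cj (h.mb_cj (h.mb_cj (h.mb_cj (h.mb_cj (h.mb_cj (h.mb_cj z h1 _ _) h2 _ _) h4 _ _) h8 _ _)
    (h.cm_cj h1 h4) _ _) (h.cm_cj h1 h8) _ _) (h.cm_cj h2 h4) _ _) (h.cm_cj h2 h8) _ _
/-- `T` is generated by the elements with codes `1, 2, 4, 8` -/
theorem gen {H : Subgroup G} (h1 : ee ρ 1 ∈ H) (h2 : ee ρ 2 ∈ H) (h4 : ee ρ 4 ∈ H) (h8 : ee ρ 8 ∈ H) : TT ρ ≤ H := by
  intro g i
  obtain ⟨n, -, rfl⟩ := h.mem_TT.1 i
  rw [h.ee_Act n, Act, frc_eq]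
  have z : ee ρ 0 ∈ H := by rw [ee_zero]; exact one_mem _
  exact h.mb_mem (h.mb_mem (h.mb_mem (h.mb_mem (h.mb_mem (h.mb_mem (h.mb_mem (h.mb_mem z h1 _ _) h2 _ _) h4 _ _) h8 _ _)
    (h.cm_mem h1 h4) _ _) (h.cm_mem h1 h8) _ _) (h.cm_mem h2 h4) _ _) (h.cm_mem h2 h8) _ _

variable [Finite G]

/-- `g` maps `T` into `T` -/
theorem nT (q : ∀ n < 256, g * ee ρ n * g⁻¹ ∈ TT ρ) : g ∈ N[TT ρ] :=
  mem_normalizer_fintype fun a i => by
    obtain ⟨n, hn, rfl⟩ := h.mem_TT.1 i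
    exact q n hn
theorem card_TT : Nat.card (TT ρ) = 256 := by
  rw [← Nat.card_eq_of_bijective (fun n : Fin 256 => (⟨ee ρ n, h.ee_TT n⟩ : TT ρ))
    ⟨fun n m e => Fin.ext (h.inj n.2 m.2 (congrArg Subtype.val e)), fun ⟨a, i⟩ => by
      obtain ⟨n, hn, rfl⟩ := h.mem_TT.1 i
      exact ⟨⟨n, hn⟩, rfl⟩⟩]
  simp
theorem pig_TT : PiG {2} (TT ρ) := pig_of_card_pow (n := 8) Nat.prime_two h.card_TT
/-- NF: coordinates adapted to a 2-subgroup of `N` -/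
theorem nf {D : Subgroup G} (hD : D ≤ N[ρ.range]) (h2 : PiG {2} D) :
    ∃ ρ' : U →* G, Sd ρ' ∧ ρ'.range = ρ.range ∧ ∀ g ∈ D, ∃ b < 64, ∃ d < 4, Ac ρ' g (τ b) d := by
  haveI : Finite (MulAut L) := Nat.finite_of_card_ne_zero (by rw [factsL.2.2.1]; norm_num)
  choose α hα using fun g : D => h.act g (hD g.2)
  choose A hA using fun g : D => exists_ind π_surj π_ker (α g)
  let Φ : D →* MulAut L := MonoidHom.mk' A fun g g' => MulEquiv.ext fun l => by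
    obtain ⟨y, rfl⟩ := π_surj l
    rw [MulAut.mul_apply, hA, hA, hA]
    exact h.π_eq (by rw [← hα, ← hα, ← hα, coe_mul]; group)
  obtain ⟨S, hS, e⟩ := exS
  obtain ⟨c, -, q⟩ := Syl.cj_sub hS Nat.prime_two (le_top (a := Φ.range)) (by
    rw [MonoidHom.range_eq_map]
    exact PiG.map (show PiG {2} (⊤ : Subgroup D) by rw [PiG, card_top]; exact h2) Φ)
  obtain ⟨x, d, -, hc⟩ := aut_L c
  let γ : MulAut U := MulAut.conj x * β d
  have hc' : ∀ y, c (π y) = π (γ y) := hc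
  refine ⟨_, (h.comp γ⁻¹).1, (h.comp γ⁻¹).2, fun g i => ?_⟩
  obtain ⟨b, hb, d, hd, r⟩ := e _ (q (mem_cj_conj.2 ⟨⟨g, i⟩, rfl⟩))
  refine ⟨b, hb, d, hd, fun y => ?_⟩
  have := lift_eq π_ker (by rw [card_cen]; norm_num) (f := (γ * α ⟨g, i⟩ * γ⁻¹).toMonoidHom)
    (g := (MulAut.conj (τ b) * β d).toMonoidHom) (fun y => by
      have e1 : c⁻¹ (π y) = π (γ⁻¹ y) := c.injective (by rw [hc']; simp)
      refine Eq.trans ?_ (r y)
      rw [MulAut.mul_apply, MulAut.mul_apply, e1]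
      exact ((congrArg c (hA _ _)).trans (hc' _)).symm) y
  show g * ρ (γ⁻¹ y) * g⁻¹ = ρ (γ⁻¹ (τ b * β d y * (τ b)⁻¹))
  rw [hα ⟨g, i⟩, show τ b * β d y * (τ b)⁻¹ = γ (α ⟨g, i⟩ (γ⁻¹ y)) from this.symm]; simp
/-- F5: squares of 2-elements of `N` are inner -/
theorem sqI (hg : g ∈ N[ρ.range]) (h2 : PiE {2} g) : In ρ.range (g * g) := by
  obtain ⟨ρ', h', e, q⟩ := h.nf (zpowers_le.2 hg) (pig_zpowers.2 h2)
  obtain ⟨b, hb, d, hd, q⟩ := q g (mem_zpowers g)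
  exact e ▸ in_of_ac (h'.sqac q hb hd)
/-- a 2-element of `T K` is `ee n · κ` with a 2-element `κ` of `K` -/
theorem dec2 (q : Ac ρ g (τ n) 0) (hn : n < 64) (h2 : PiE {2} g) :
    (ee ρ n)⁻¹ * g ∈ C[ρ.range] ∧ PiE {2} ((ee ρ n)⁻¹ * g) := by
  have i : (ee ρ n)⁻¹ * g ∈ C[ρ.range] := by rw [ee_lt ρ hn]; exact q.K
  refine ⟨i, (h.pig_TT.elt (h.ee_TT n)).inv.mul h2 ?_⟩
  have := mem_C.1 i _ (ee_mem ρ n)
  rw [mul_inv_cancel_left] at this
  calc _ = (ee ρ n)⁻¹ * g * ee ρ n * (ee ρ n)⁻¹ := by group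
    _ = _ := by rw [← this]
/-- `Z` cannot act on `L^y` as a four-group of outer automorphisms -/
theorem fg {y : G} (hy : y ∉ N[ρ.range]) (hN : ZZ ρ.range ≤ N[(cr y ρ).range])
    (hI : ∀ t ∈ ZZ ρ.range, In (cr y ρ).range t → t = 1) : False := by
  obtain ⟨ρ', h', e, q⟩ := (h.cj y).nf hN (pig_of_elts fun t i => pie_of_pow Nat.prime_two (by
    rw [pow_two]; exact h.ZZ_sq i))
  rw [← e] at hI
  have f : ∀ n < 256, n % 64 = 0 → n ≠ 0 → ∃ b < 64, ∃ d < 4, d ≠ 0 ∧ Ac ρ' (ee ρ n) (τ b) d := fun n hn h0 h1 => by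
    obtain ⟨b, hb, d, hd, r⟩ := q _ (h.ee_ZZ h0)
    exact ⟨b, hb, d, hd, fun i => h.ne1 hn h1 (hI _ (h.ee_ZZ h0) ((h'.in_iff r hd).2 i)), r⟩
  obtain ⟨b1, -, d1, l1, n1, r1⟩ := f 64 (by omega) rfl (by omega)
  obtain ⟨b2, -, d2, l2, n2, r2⟩ := f 128 (by omega) rfl (by omega)
  obtain ⟨b3, -, d3, l3, n3, r3⟩ := f 192 (by omega) rfl (by omega)
  have e3 := (h'.uniq (r1.mul r2 l1 l2) (by rwa [← h.mul, show μ 64 128 = 192 by decide +kernel])
    (Nat.xor_lt_two_pow (n := 2) l1 l2) l3).1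
  have key : ∀ {n m : ℕ} {x x' : U} {d : ℕ}, n < 256 → n % 64 = 0 → n ≠ 0 → m % 64 = 0 → Ac ρ' (ee ρ n) x 3 →
      Ac ρ' (ee ρ m) x' d → d = 1 ∨ d = 2 → False := fun {n m x x' d} hn h0 h1 h2 r r' hd => by
    have a := (h'.acz r (by omega)).1
    rw [(c_za4 3 (by omega)).2.1 (by omega), mul_inv_eq_iff_eq_mul] at a
    have zN := h.cenN (h.ee_K h0) (ord2_iff.2 ⟨h.ZZ_sq (h.ee_ZZ h0), h.ne1 hn h1⟩) a.symm
    have a' := (h'.acz r' (by omega)).1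
    rw [(c_za4 d (by omega)).2.2 hd, show 192 = μ 128 64 by decide +kernel, h'.mul] at a'
    refine h'.ne1 (n := 128) (by omega) (by omega) (h.ti' hy ?_ (e ▸ h'.ee_K rfl) (h'.sq0 (by decide +kernel)))
    rw [← mul_inv_eq_iff_eq_mul] at a'
    rw [← a', mul_assoc, mul_assoc, ← mul_assoc (ee ρ' 64)]
    exact mul_mem (h.ee_K h2) (conj_mem (N_le_NC' zN) (inv_mem (h.ee_K h2)))
  have : d1 = 3 ∧ (d2 = 1 ∨ d2 = 2) ∨ d2 = 3 ∧ (d1 = 1 ∨ d1 = 2) ∨ d3 = 3 ∧ (d1 = 1 ∨ d1 = 2) := by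
    subst e3
    interval_cases d1 <;> interval_cases d2 <;> simp_all
  rcases this with ⟨rfl, i⟩ | ⟨rfl, i⟩ | ⟨rfl, i⟩
  exacts [key (by omega) rfl (by omega) rfl r1 r2 i, key (by omega) rfl (by omega) rfl r2 r1 i,
    key (by omega) rfl (by omega) rfl r3 r1 i]

end Sd

namespace Ut
variable (h : Ut ρ g a b)
include h

theorem sd : Sd ρ := h.sw.sd
theorem uac {i : ℕ} (hi : i < 4) (n : ℕ) :
    a ^ i * b ^ (i / 2) * ee ρ n * (a ^ i * b ^ (i / 2))⁻¹ = ee ρ (ac i n) := by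
  have c := c_ac0 _ (Nat.mod_lt n (show 256 > 0 by omega))
  rw [pow_eq_pow_mod i (show a ^ 2 = 1 by rw [pow_two, h.aa])]
  interval_cases i
  · rw [← ac_mod, c.2.1, h.sd.ee_mod]; simp
  · simpa using h.a1 n
  · simpa using h.a2 n
  · rw [← ac_mod, ← c.2.2, ← h.a1, ac_mod, ← h.a2]; simp [mul_assoc]
theorem umul {i j : ℕ} (hi : i < 4) (hj : j < 4) :
    a ^ i * b ^ (i / 2) * (a ^ j * b ^ (j / 2)) = a ^ (i ^^^ j) * b ^ ((i ^^^ j) / 2) := by
  have c : Commute a b := h.ab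
  have a2 : a ^ 2 = 1 := by rw [pow_two, h.aa]
  have b2 : b ^ 2 = 1 := by rw [pow_two, h.bb]
  rw [mul_assoc, ← mul_assoc (b ^ _), ← (c.pow_pow _ _).eq, mul_assoc, ← mul_assoc, ← pow_add, ← pow_add,
    pow_eq_pow_mod _ a2, pow_eq_pow_mod _ b2, pow_eq_pow_mod (i ^^^ j) a2, pow_eq_pow_mod ((i ^^^ j) / 2) b2]
  interval_cases i <;> interval_cases j <;> rfl
omit h in
theorem μS_eq (n m : ℕ) : μS n m = μ n (ac (n / 256) m) + 256 * ((n / 256) ^^^ (m / 256)) := by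
  rw [μS, frc_eq, frc_eq]; rfl
omit h in
theorem el_eq (n : ℕ) : el ρ a b n = ee ρ n * (a ^ (n / 256) * b ^ (n / 256 / 2)) := by
  rw [el, Nat.div_div_eq_div_mul]
theorem mul (hn : n < 1024) (hm : m < 1024) : el ρ a b (μS n m) = el ρ a b n * el ρ a b m := by
  have l := μ_lt n (ac (n / 256) m)
  have e := μS_eq n m
  rw [el_eq, el_eq, el_eq, ← h.sd.ee_mod, show μS n m % 256 = μ n (ac (n / 256) m) by omega,
    show μS n m / 256 = (n / 256) ^^^ (m / 256) by omega, h.sd.mul, ← h.uac (by omega),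
    ← h.umul (by omega) (by omega)]
  group
omit h in
theorem lt (hn : n < 1024) (hm : m < 1024) : μS n m < 1024 := by
  have l := μ_lt n (ac (n / 256) m)
  have := Nat.xor_lt_two_pow (n := 2) (show n / 256 < 4 by omega) (show m / 256 < 4 by omega)
  rw [μS_eq]; omega
theorem el_lt (hn : n < 256) : el ρ a b n = ee ρ n := by
  rw [el, Nat.div_eq_of_lt hn, Nat.div_eq_of_lt (by omega)]; simp
theorem el_a : el ρ a b 256 = a := by rw [el, ← h.sd.ee_mod]; simp [ee_zero]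
theorem el_b : el ρ a b 512 = b := by rw [el, ← h.sd.ee_mod]; simp [ee_zero, pow_two, h.aa]
theorem el_cj (hn : n < 1024) (m : ℕ) :
    el ρ a b n * ee ρ m * (el ρ a b n)⁻¹ = ee ρ (μ (μ n (ac (n / 256) m)) (iv n)) := by
  rw [h.sd.mul, h.sd.mul, h.sd.iv, ← h.uac (by omega), el_eq]; group
theorem inj (hn : n < 1024) (hm : m < 1024) (q : el ρ a b n = el ρ a b m) : n = m := by
  have e := h.sd.inj (μ_lt _ _) (μ_lt _ _) ((h.el_cj hn 32).symm.trans (q ▸ h.el_cj hm 32))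
  have k : ∀ n < 1024, μ (μ n (ac (n / 256) 32)) (iv n) = ac (n / 256) 32 := by decide +kernel
  rw [k n hn, k m hm] at e
  have e' := (by decide +kernel : ∀ i < 4, ∀ j < 4, ac i 32 = ac j 32 → i = j) _ (by omega) _ (by omega) e
  rw [el_eq, el_eq, e', mul_left_inj, ← h.sd.ee_mod n, ← h.sd.ee_mod m] at q
  have := h.sd.inj (Nat.mod_lt _ (by omega)) (Nat.mod_lt _ (by omega)) q
  omega
theorem mem [Finite G] {y : G} : y ∈ SS ρ a b ↔ ∃ n < 1024, y = el ρ a b n := by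
  constructor
  · intro i
    let H := finSub {y | ∃ n < 1024, y = el ρ a b n} ⟨0, by omega, by rw [h.el_lt (by omega), ee_zero]⟩ (by
      rintro _ ⟨n, hn, rfl⟩ _ ⟨m, hm, rfl⟩
      exact ⟨_, lt hn hm, (h.mul hn hm).symm⟩)
    refine (sup_le (fun x j => ?_) ((closure_le H).2 ?_) : SS ρ a b ≤ H) i
    · obtain ⟨n, hn, rfl⟩ := h.sd.mem_TT.1 j
      exact ⟨n, by omega, (h.el_lt hn).symm⟩
    · rintro x (rfl | rfl)
      exacts [⟨256, by omega, h.el_a.symm⟩, ⟨512, by omega, h.el_b.symm⟩]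
  · rintro ⟨n, -, rfl⟩
    exact mul_mem (mem_sup_left (h.sd.ee_TT n)) (mem_sup_right (mul_mem (pow_mem (subset_closure (by simp)) _)
      (pow_mem (subset_closure (by simp)) _)))
theorem card [Finite G] : Nat.card (SS ρ a b) = 1024 := by
  rw [← Nat.card_eq_of_bijective (fun n : Fin 1024 => (⟨el ρ a b n, h.mem.2 ⟨n, n.2, rfl⟩⟩ : SS ρ a b))
    ⟨fun n m e => Fin.ext (h.inj n.2 m.2 (congrArg Subtype.val e)), fun ⟨x, i⟩ => by
      obtain ⟨n, hn, rfl⟩ := h.mem.1 i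
      exact ⟨⟨n, hn⟩, rfl⟩⟩]
  simp

end Ut

theorem exists_sd [Finite G] {M : Subgroup G} (hL : IsStandardSubgroup M) (h4 : IsKleinFour (center M))
    (e : M ⧸ center M ≃* L) : ∃ ρ, Sd ρ ∧ ρ.range = M := by
  obtain ⟨⟨hp, -⟩, ⟨-, h2⟩, -, h5⟩ := hL
  have c4 : Nat.card (center M) = 4 := h4.card_four
  let p : M →* L := e.toMonoidHom.comp (QuotientGroup.mk' _)
  have ps : Function.Surjective p := e.surjective.comp (QuotientGroup.mk'_surjective _)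
  have pk : p.ker = center M := by ext c; simp [p, MonoidHom.mem_ker]
  obtain ⟨ρ, hρ⟩ := exists_ρ ps pk c4
  have h1 : p.ker ≤ ρ.range := Mult.ker_le ps pk.le hp.commutator_eq_top (by
    have : ρ.range.map p = ⊤ := eq_top_iff.2 fun l _ => by
      obtain ⟨x, rfl⟩ := π_surj l
      exact ⟨_, ⟨x, rfl⟩, hρ x⟩
    rw [this, index_top]; exact Nat.coprime_one_right _)
  have s : Function.Surjective ρ := fun m => by
    obtain ⟨x, hx⟩ := π_surj (p m)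
    have := h1 (show (ρ x)⁻¹ * m ∈ p.ker by rw [MonoidHom.mem_ker, map_mul, map_inv, hρ, hx, inv_mul_cancel])
    simpa using mul_mem (show ρ x ∈ ρ.range from ⟨x, rfl⟩) this
  have kr : ∀ x, ρ x = 1 → x ∈ center U := fun x hx => π_eq_one.1 (by rw [← hρ, hx, map_one])
  have cm : ∀ x, ρ x ∈ center M ↔ x ∈ center U := fun x => by rw [← pk, MonoidHom.mem_ker, hρ, π_eq_one]
  have sq : ∀ x ∈ center U, ρ x * ρ x = 1 := fun x i =>
    congrArg Subtype.val (IsKleinFour.mul_self (⟨ρ x, (cm x).2 i⟩ : center M))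
  have z2 : ρ z ^ 2 = 1 := by rw [pow_two, sq z z_cen]
  have k2 : ρ k ^ 2 = 1 := by rw [pow_two, sq k k_cen]
  have nc : ∀ w : M, w ^ 2 = 1 → ρ z ∈ zpowers w → ρ k ∈ zpowers w → False := fun w w2 i j => by
    have : center M ≤ zpowers w := fun m hm => by
      obtain ⟨x, rfl⟩ := s m
      obtain ⟨n, -, rfl⟩ := cen_zel ((cm x).1 hm)
      rw [zel, map_mul, map_pow, map_pow]
      exact mul_mem (pow_mem i _) (pow_mem j _)
    have := card_le_of_le this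
    rw [c4, Nat.card_zpowers] at this
    have := Nat.le_of_dvd (by omega) (orderOf_dvd_of_pow_eq_one w2)
    omega
  let ι : U →* G := M.subtype.comp ρ
  have rg : ι.range = M := by
    rw [MonoidHom.range_comp, MonoidHom.range_eq_top.2 s, ← MonoidHom.range_eq_map, range_subtype]
  refine ⟨ι, ⟨fun x => ⟨fun hx => ?_, ?_⟩, fun g i => ?_, fun u i j g k => ?_⟩, rg⟩
  · have hx : ρ x = 1 := Subtype.ext hx
    obtain ⟨n, -, rfl⟩ := cen_zel (kr x hx)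
    rw [zel, map_mul, map_pow, map_pow, pow_eq_pow_mod _ z2, pow_eq_pow_mod _ k2] at hx
    rcases Nat.mod_two_eq_zero_or_one (n % 4) with a1 | a1 <;> rcases Nat.mod_two_eq_zero_or_one (n / 4) with a2 | a2 <;>
      rw [a1, a2] at hx
    · exact ⟨_, zk_cen (n % 4 / 2) (n / 4 / 2), by rw [zk_mul, zel]; congr 2 <;> omega⟩
    · exact (nc _ z2 (mem_zpowers _) (by rw [show ρ k = 1 by simpa using hx]; exact one_mem _)).elim
    · exact (nc _ k2 (by rw [show ρ z = 1 by simpa using hx]; exact one_mem _) (mem_zpowers _)).elim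
    · exact (nc _ k2 (by
        rw [show ρ z = (ρ k)⁻¹ from eq_inv_of_mul_eq_one_left (by simpa using hx)]
        exact inv_mem (mem_zpowers _)) (mem_zpowers _)).elim
  · rintro ⟨c, i, rfl⟩
    rw [map_mul]
    exact congrArg Subtype.val (sq c i)
  · rw [rg] at i
    obtain ⟨x, d, -, h⟩ := aut_lift s kr c4 (M.normalizerMonoidHom ⟨g, i⟩)
    exact ⟨MulAut.conj x * β d, fun y => congrArg Subtype.val (h y)⟩
  · rw [rg] at i k ⊢
    rw [h5]
    by_contra n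
    have := orderOf_dvd_natCard _ (mem_inf.2 ⟨k, mem_cj_conj.2 i⟩)
    rw [orderOf_conj', j] at this
    exact Nat.not_even_iff_odd.2 (h2 g n) (even_iff_two_dvd.2 this)

end Cfsg.Agent.HQ
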