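import Cfsg.Agent.HQ.C

/-! # Standard subgroups `2².L3(4)`: the normaliser of `T` -/

set_option autoImplicit false
set_option linter.unusedVariables false
set_option linter.unusedSectionVars false
set_option maxRecDepth 100000
set_option synthInstance.maxSize 100000
set_option synthInstance.maxHeartbeats 400000

namespace Cfsg.Agent.HQ
open Subgroup Cfsg.Agent.Spor Cfsg.Agent.Spor.OnD Cfsg.Agent.H8On Cfsg.Agent.BG Cfsg.Agent.Inv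
open Cfsg.Agent.SO (Ac cr cr_apply cr_range ac_inn ac_K ac_of_K N_le_NC' mem_K β_xor β_inj idx_cen)

variable {G : Type*} [Group G] [Finite G] {ρ : U →* G} {g a b : G}

def YL : List ℕ := [1, 2, 3, 4, 8, 12, 17, 18, 19, 20, 24, 28, 33, 34, 35, 36, 40, 44, 49, 50, 51, 52, 56, 60]
def YP : List (ℕ × ℕ) := [(1, 2), (1, 3), (2, 1), (2, 3), (3, 1), (3, 2), (4, 8), (4, 12), (8, 4), (8, 12), (12, 4), (12, 8), (17, 34), (17, 51), (18, 35), (18, 49), (19, 33), (19, 50), (20, 40), (20, 60), (24, 44), (24, 52), (28, 36), (28, 56), (33, 19), (33, 50), (34, 17), (34, 51), (35, 18), (35, 49), (36, 28), (36, 56), (40, 20), (40, 60), (44, 24), (44, 52), (49, 18), (49, 35), (50, 19), (50, 33), (51, 17), (51, 34), (52, 24), (52, 44), (56, 28), (56, 36), (60, 20), (60, 40)]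
theorem c_Y0 : ∀ n < 256, (isX n → n % 16 ≠ 0 → n ∈ YL) ∧ (n ∈ YL → isX n) := by decide +kernel
theorem c_Y1 : ∀ p ∈ YL, ∀ q ∈ YL, μ p q ∈ YL → (p, q) ∈ YP := by decide +kernel
theorem c_Y2 : ∀ x ∈ YP, ∀ y ∈ YP, μ x.1 y.1 ≠ μ y.1 x.1 → ∃ m < 16,
    V1 (μ (μ m x.1) (iv m)) (μ (μ m x.2) (iv m)) ∧ V2 (μ (μ m y.1) (iv m)) (μ (μ m y.2) (iv m)) ∨
    V2 (μ (μ m x.1) (iv m)) (μ (μ m x.2) (iv m)) ∧ V1 (μ (μ m y.1) (iv m)) (μ (μ m y.2) (iv m)) := by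
  decide +kernel
theorem c_Y3 : ∀ i < 16, ∀ t < 256, μ (16 * i) t = μ t (16 * i) := by decide +kernel
theorem c_Y4 : ∀ n < 256, μ n 1 = μ 1 n → μ n 2 = μ 2 n → μ n 4 = μ 4 n → μ n 8 = μ 8 n → n % 16 = 0 := by
  decide +kernel

theorem Sw.e1 (h : Sw ρ g) {e : G} (he : e ∈ N[TT ρ]) : ∃ m < 16, ∃ p q r s, Ax ρ (ee ρ m * e) p q r s ∧
    (V1 p q ∧ V2 r s ∨ V2 p q ∧ V1 r s) := by
  have im : ∀ n, ∃ p < 256, e * ee ρ n * e⁻¹ = ee ρ p := fun n => h.sd.mem_TT.1 (conj_mem he (h.sd.ee_TT n))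
  have nc : ∀ {n t p u : ℕ}, e * ee ρ n * e⁻¹ = ee ρ p → e * ee ρ t * e⁻¹ = ee ρ u → μ p u = μ u p →
      μ n t = μ t n := fun a b c => h.sd.comm' <| by
    have := h.sd.comm c
    rw [← a, ← b, conj_mul, conj_mul] at this
    simpa using this
  have Y : ∀ {n p : ℕ} (t : ℕ), e * ee ρ n * e⁻¹ = ee ρ p → p < 256 → n < 256 → n ∈ YL → μ n t ≠ μ t n → p ∈ YL :=
    fun {n p} t a hp hn i j => (c_Y0 p hp).1 ((h.x0 p hp).1 (a ▸ ((h.x0 n hn).2 ((c_Y0 n hn).2 i)).cj e)) fun k => by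
      obtain ⟨u, hu, b⟩ := im t
      have := c_Y3 (p / 16) (by omega) u hu
      rw [show 16 * (p / 16) = p by omega] at this
      exact j (nc a b this)
  have ml : ∀ {n t p u : ℕ}, e * ee ρ n * e⁻¹ = ee ρ p → e * ee ρ t * e⁻¹ = ee ρ u →
      e * ee ρ (μ n t) * e⁻¹ = ee ρ (μ p u) := fun a b => by rw [h.sd.mul, h.sd.mul, ← a, ← b, conj_mul]
  obtain ⟨p, hp, a1⟩ := im 1
  obtain ⟨q, hq, a2⟩ := im 2
  obtain ⟨r, hr, a4⟩ := im 4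
  obtain ⟨s, hs, a8⟩ := im 8
  obtain ⟨m, hm, k⟩ := c_Y2 (p, q) (c_Y1 p (Y 4 a1 hp (by omega) (by decide) (by decide +kernel)) q
      (Y 4 a2 hq (by omega) (by decide) (by decide +kernel))
      (Y 4 (ml a1 a2) (μ_lt _ _) (μ_lt _ _) (by decide +kernel) (by decide +kernel)))
    (r, s) (c_Y1 r (Y 1 a4 hr (by omega) (by decide) (by decide +kernel)) s
      (Y 1 a8 hs (by omega) (by decide) (by decide +kernel))
      (Y 1 (ml a4 a8) (μ_lt _ _) (μ_lt _ _) (by decide +kernel) (by decide +kernel)))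
    fun c => absurd (nc a1 a4 c) (by decide +kernel)
  have f : ∀ {n p : ℕ}, e * ee ρ n * e⁻¹ = ee ρ p →
      ee ρ m * e * ee ρ n * (ee ρ m * e)⁻¹ = ee ρ (μ (μ m p) (iv m)) := fun a => by
    rw [h.sd.mul, h.sd.mul, h.sd.iv, ← a]; group
  exact ⟨m, hm, _, _, _, _, h.sd.ax (f a1) (f a2) (f a4) (f a8), k⟩

theorem Sw.cenT (h : Sw ρ g) {e : G} (he : e ∈ C[TT ρ]) (h2 : PiE {2} e) : ∃ n < 256, n % 16 = 0 ∧ e = ee ρ n := by
  have c : ∀ n, e * ee ρ n = ee ρ n * e := fun n => (mem_C.1 he _ (h.sd.ee_TT n)).symm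
  have f : ∀ n, e * ee ρ n * e⁻¹ = ee ρ n := fun n => by rw [c, mul_inv_cancel_right]
  have hN := h.sd.cenN (h.sd.ee_K (n := 64) rfl) (h.sd.o2 (by omega) (by omega) (by decide +kernel)) (c 64)
  obtain ⟨b, hb, q⟩ := h.sd.F2 hN (f 64) (f 128) (f 16) rfl (f 32) rfl
  obtain ⟨i, j⟩ := h.sd.dec2 q hb h2
  obtain ⟨m, -, -, k⟩ := h.sd.mem_ZZ.1 ⟨h.k2 _ i j, i⟩
  have k' : e = ee ρ (μ b m) := by rw [h.sd.mul, ← k, mul_inv_cancel_left]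
  have l : ∀ t, μ (μ b m) t = μ t (μ b m) := fun t => h.sd.comm' (k' ▸ c t)
  exact ⟨_, μ_lt _ _, c_Y4 _ (μ_lt _ _) (l 1) (l 2) (l 4) (l 8), k'⟩

end Cfsg.Agent.HQ
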