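import Cfsg.Agent.HL.Main
import Cfsg.Agent.H8.HQx

/-! # `L₅(2)` and `M₂₄` have no standard subgroup `2².L₃(4)` -/

set_option autoImplicit false
set_option linter.unusedVariables false

namespace Cfsg.Agent.HQ

variable {G : Type*} [Group G] {x a b : G}

/-- in `L₅(2)` no involution commutes with an element of order `5` -/
theorem not_L52 (φ : G ≃* Matrix.SpecialLinearGroup (Fin 5) (ZMod 2)) (hx : orderOf x = 5) (ha : orderOf a = 2)
    (c : a * x = x * a) : False :=
  H8Q.L52 (x := φ x) (a := φ a) (by rw [φ.orderOf_eq]; exact hx) (by rw [φ.orderOf_eq]; exact ha)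
    (by rw [← map_mul, c, map_mul])

/-- in `M₂₄` no four-group commutes with an element of order `7` -/
theorem not_M24 (φ : G ≃* Cfsg.M24) (hx : orderOf x = 7) (ha : orderOf a = 2) (hb : orderOf b = 2) (n : a ≠ b)
    (ab : a * b = b * a) (c : a * x = x * a) (c' : b * x = x * b) : False :=
  H8Q.M24' (x := φ x) (a := φ a) (b := φ b) (by rw [φ.orderOf_eq]; exact hx) (by rw [φ.orderOf_eq]; exact ha)
    (by rw [φ.orderOf_eq]; exact hb) (φ.injective.ne n) (by rw [← map_mul, ab, map_mul]) (by rw [← map_mul, c, map_mul])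
    (by rw [← map_mul, c', map_mul])

end Cfsg.Agent.HQ
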