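import Cfsg.Agent.HQ.C

/-! # Standard subgroups `2².L3(4)`: inner fusion -/

set_option autoImplicit false
set_option linter.unusedVariables false
set_option linter.unusedSectionVars false
set_option maxRecDepth 100000
set_option synthInstance.maxSize 100000
set_option synthInstance.maxHeartbeats 400000

namespace Cfsg.Agent.HQ
open Subgroup Cfsg.Agent.Spor Cfsg.Agent.Spor.OnD Cfsg.Agent.H8On Cfsg.Agent.BG Cfsg.Agent.Inv
open Cfsg.Agent.SO (Ac cr cr_apply cr_range ac_inn ac_K ac_of_K N_le_NC' mem_K β_xor β_inj idx_cen)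

variable {G : Type*} [Group G] [Finite G] {ρ ρ1 : U →* G} {g a b s y : G} {n m c : ℕ}

noncomputable def fc (m p : ℕ) : ℕ := μ m (al p 0 (iv m))

theorem i_fix : ∀ b < 64, ∀ n < 256, b % 16 = 0 ∨ n % 16 = 0 → al b 0 n = n := by decide +kernel
theorem i_sq : ∀ n < 256, n % 16 = 0 → ∃ a < 16, ∃ b < 16, μ (μ a a) (μ b b) = n := by decide +kernel
theorem i_z : ∀ b < 64, ∀ d < 4, ∀ m < 256, m % 64 = 0 → al b d m = m ∨ al b d m = μ 128 m := by decide +kernel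
theorem i_w : ∀ b < 64, (fc 1 b = 0 ∨ fc 2 b = 0 ∨ fc 1 b = fc 2 b) → (fc 4 b = 0 ∨ fc 8 b = 0 ∨ fc 4 b = fc 8 b) →
    b % 16 = 0 := by decide +kernel
theorem i_mz : ∀ c < 64, ∀ n < 256, n % 64 = 0 → μ c n % 64 = c ∧ μ c n = c + n := by decide +kernel
theorem i_s1 : ∀ p < 64, ∀ q < 64, μ (sqc p 0) (sqc q 0) % 64 = (μ (p % 16) (p % 16) % 64) ^^^ (μ (q % 16) (q % 16) % 64) := by
  decide +kernel
theorem i_s2 : ∀ p < 64, ∀ m < 16, fc m p = fc m (p % 16) := by decide +kernel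
theorem i_s3 : ∀ p < 16, ∀ q < 16, μ p p % 64 ≠ 0 → μ q q % 64 ≠ 0 → μ p p % 64 ≠ μ q q % 64 →
    ∀ w < 16, ∃ m < 16, ∃ m' < 16, μ (fc m p) (fc m' q) = 16 * w := by decide +kernel
theorem i_s4 : ∀ p < 16, μ p p % 64 = 0 ∨ μ p p % 64 = 16 ∨ μ p p % 64 = 32 ∨ μ p p % 64 = 48 := by decide +kernel
theorem i_cen : ∀ m < 256, μ m 1 = μ 1 m → μ m 2 = μ 2 m → μ m 4 = μ 4 m → μ m 8 = μ 8 m → m % 16 = 0 := by
  decide +kernel
theorem i_cen' : ∀ m < 256, m % 16 = 0 → ∀ n < 256, μ m n = μ n m := by decide +kernel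
theorem i_al : ∀ b < 64, al b 0 1 = 1 → al b 0 2 = 2 → al b 0 4 = 4 → al b 0 8 = 8 → b % 16 = 0 := by decide +kernel
theorem i_ns : ∀ m < 256, m % 16 = 0 → m < 64 ∨ m % 64 = 0 ∨ ∃ a < 16, μ a a = m := by decide +kernel
theorem i_ns' : ∀ a < 256, μ a a < 64 ∨ μ a a % 64 = 0 → μ a a = 0 := by decide +kernel

theorem ZZ_comm {M : Subgroup G} (h : a ∈ ZZ M) (q : In M g) : g * a = a * g := by
  obtain ⟨l, i, j⟩ := q
  calc g * a = l * ((l⁻¹ * g) * a) := by group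
    _ = _ := by rw [← mem_C.1 j a h.1, ← mul_assoc, mem_C.1 h.2 l i]; group

theorem Sd.fix (h : Sd ρ) (q : Ac ρ s (τ c) 0) (hc : c < 64) (e : c % 16 = 0 ∨ n % 16 = 0) :
    s * ee ρ n = ee ρ n * s := by
  rw [← mul_inv_eq_iff_eq_mul, ← h.ee_mod, h.al q hc (by omega), i_fix c hc _ (Nat.mod_lt _ (by omega)) (by omega)]
theorem Sd.fc (h : Sd ρ) (q : Ac ρ s (τ c) 0) (hc : c < 64) (m : ℕ) :
    ee ρ m * s * (ee ρ m)⁻¹ * s⁻¹ = ee ρ (fc m c) := by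
  rw [HQ.fc, h.mul, ← h.al q hc (by omega), h.iv]; group
theorem Sd.wc (h : Sd ρ) (e : m % 16 = 0) (n : ℕ) : ee ρ m * ee ρ n = ee ρ n * ee ρ m := by
  rw [← h.ee_mod m, ← h.ee_mod n]
  exact h.comm (i_cen' _ (Nat.mod_lt _ (by omega)) (by omega) _ (Nat.mod_lt _ (by omega)))
theorem Sd.TN (h : Sd ρ) (h1 : Sd ρ1) (hs : s ∈ C[ρ1.range]) (h2 : orderOf s = 2) (q : Ac ρ s (τ 16) 0) (n : ℕ) :
    ee ρ n ∈ N[ρ1.range] := h1.cenN hs h2 (h.fix q (by omega) (by omega)).symm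
theorem Sd.WI (h : Sd ρ) (h1 : Sd ρ1) (q : ∀ n, ee ρ n ∈ N[ρ1.range]) (hn : n < 256) (e : n % 16 = 0) :
    In ρ1.range (ee ρ n) := by
  obtain ⟨a, -, b, -, rfl⟩ := i_sq n hn e
  rw [h.mul, h.mul, h.mul]
  exact (h1.sqI (q a) (h.pig_TT.elt (h.ee_TT a))).mul (h1.sqI (q b) (h.pig_TT.elt (h.ee_TT b)))
theorem ac_K2 {x : U} (q : Ac ρ a x 0) (q' : Ac ρ b x 0) : a⁻¹ * b ∈ C[ρ.range] := by
  have := mul_mem (inv_mem q.K) q'.K
  convert this using 1; group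

structure Pr (ρ ρ1 : U →* G) : Prop where
  h : Sd ρ
  h1 : Sd ρ1
  dj : ∀ u ∈ C[ρ.range], u ∈ C[ρ1.range] → u * u = 1 → u = 1
  s : ∀ n, ee ρ n ∈ N[ρ1.range]
  t : ∀ n, ee ρ1 n ∈ N[ρ.range]

namespace Pr
variable (P : Pr ρ ρ1)
include P

theorem symm : Pr ρ1 ρ := ⟨P.h1, P.h, fun u i j => P.dj u j i, P.t, P.s⟩

theorem zw (ha : a ∈ ZZ ρ1.range) : ∃ b < 64, b % 16 = 0 ∧ Ac ρ a (τ b) 0 := by
  have h := P.h
  have c : ∀ n < 256, n % 16 = 0 → a * ee ρ n * a⁻¹ = ee ρ n := fun n hn e => by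
    rw [← ZZ_comm ha (h.WI P.h1 P.s hn e), mul_inv_cancel_right]
  obtain ⟨b, hb, q⟩ := h.F2 (h.cenN (h.ee_K (n := 64) rfl) (h.o2 (by omega) (by omega) (by decide +kernel))
    (mul_inv_eq_iff_eq_mul.1 (c 64 (by omega) rfl))) (c 64 (by omega) rfl) (c 128 (by omega) rfl)
    (c 16 (by omega) rfl) rfl (c 32 (by omega) rfl) rfl
  refine ⟨b, hb, ?_, q⟩
  obtain ⟨ρ', h', e, r⟩ := P.h1.nf (D := TT ρ) (fun x i => by
    obtain ⟨n, -, rfl⟩ := h.mem_TT.1 i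
    exact P.s n) h.pig_TT
  obtain ⟨m, hm, e0, rfl⟩ := h'.mem_ZZ.1 (e ▸ ha)
  have f : ∀ j, fc j b = 0 ∨ ee ρ (fc j b) = ee ρ' 128 := fun j => by
    obtain ⟨b', hb', d, hd, r⟩ := r _ (h.ee_TT j)
    have := h.fc q hb j
    rw [h'.al r hb' hd] at this
    rcases i_z b' hb' d hd m hm e0 with i | i <;> rw [i] at this
    · exact Or.inl (h.inj (μ_lt _ _) (by omega) (by rw [← this, ee_zero, mul_inv_cancel]))
    · exact Or.inr (by rw [← this, h'.mul, mul_inv_cancel_right])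
  have f' : ∀ i j, fc i b = 0 ∨ fc j b = 0 ∨ fc i b = fc j b := fun i j =>
    (f i).imp_right fun u => (f j).imp_right fun v => h.inj (μ_lt _ _) (μ_lt _ _) (u.trans v.symm)
  exact i_w b hb (f' _ _) (f' _ _)

theorem zb (hc : c = 16 ∨ c = 32 ∨ c = 48) : ∃ n < 256, n % 64 = 0 ∧ Ac ρ (ee ρ1 n) (τ c) 0 := by
  have h1 := P.h1
  have f : ∀ n < 256, n % 64 = 0 → n ≠ 0 → ∃ b < 64, b % 16 = 0 ∧ b ≠ 0 ∧ Ac ρ (ee ρ1 n) (τ b) 0 := fun n hn e e' => by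
    obtain ⟨b, hb, i, q⟩ := P.zw (h1.ee_ZZ e)
    refine ⟨b, hb, i, ?_, q⟩
    rintro rfl
    exact h1.ne1 hn e' (P.dj _ (by simpa [τ_zero] using q.K) (h1.ee_K e) (h1.ZZ_sq (h1.ee_ZZ e)))
  have j : ∀ {n m b}, n < 256 → m < 256 → n % 64 = 0 → m % 64 = 0 → Ac ρ (ee ρ1 n) (τ b) 0 → Ac ρ (ee ρ1 m) (τ b) 0 →
      n = m := fun hn hm e e' q q' => by
    have i := mul_mem (inv_mem (h1.ee_ZZ e)) (h1.ee_ZZ e')
    exact h1.inj hn hm (inv_mul_eq_one.1 (P.dj _ (ac_K2 q q') i.2 (h1.ZZ_sq i)))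
  obtain ⟨b1, l1, m1, n1, r1⟩ := f 64 (by omega) rfl (by omega)
  obtain ⟨b2, l2, m2, n2, r2⟩ := f 128 (by omega) rfl (by omega)
  obtain ⟨b3, l3, m3, n3, r3⟩ := f 192 (by omega) rfl (by omega)
  have a1 : b1 ≠ b2 := fun e => absurd (j (by omega) (by omega) rfl rfl r1 (e ▸ r2)) (by omega)
  have a2 : b1 ≠ b3 := fun e => absurd (j (by omega) (by omega) rfl rfl r1 (e ▸ r3)) (by omega)
  have a3 : b2 ≠ b3 := fun e => absurd (j (by omega) (by omega) rfl rfl r2 (e ▸ r3)) (by omega)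
  rcases (by omega : c = b1 ∨ c = b2 ∨ c = b3) with rfl | rfl | rfl
  exacts [⟨_, by omega, rfl, r1⟩, ⟨_, by omega, rfl, r2⟩, ⟨_, by omega, rfl, r3⟩]

theorem tk (n : ℕ) : ∃ b < 64, Ac ρ (ee ρ1 n) (τ b) 0 := by
  have h := P.h
  have cz : ∀ m, m % 64 = 0 → ee ρ1 n * ee ρ m * (ee ρ1 n)⁻¹ = ee ρ m := fun m e => by
    obtain ⟨b, hb, i, q⟩ := P.symm.zw (h.ee_ZZ e)
    rw [← P.h1.fix q hb (Or.inl i), mul_inv_cancel_right]
  have f : ∀ c, c = 16 ∨ c = 32 ∨ c = 48 → ∃ m, m % 64 = c ∧ ee ρ1 n * ee ρ c * (ee ρ1 n)⁻¹ = ee ρ m := fun c hc => by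
    obtain ⟨m, -, e, q⟩ := P.zb hc
    have i := q.K
    rw [← ee_lt ρ (by omega)] at i
    have e1 := mem_C.1 (P.h1.ee_K e) _ (ee_mem ρ1 n)
    have u := mul_mem i (conj_mem (N_le_NC' (P.t n)) (inv_mem i))
    rw [show (ee ρ c)⁻¹ * ee ρ1 m * (ee ρ1 n * ((ee ρ c)⁻¹ * ee ρ1 m)⁻¹ * (ee ρ1 n)⁻¹) =
      (ee ρ c)⁻¹ * (ee ρ1 m * ee ρ1 n) * (ee ρ1 m)⁻¹ * ee ρ c * (ee ρ1 n)⁻¹ by group, ← e1,
      show (ee ρ c)⁻¹ * (ee ρ1 n * ee ρ1 m) * (ee ρ1 m)⁻¹ * ee ρ c * (ee ρ1 n)⁻¹ =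
        (ee ρ c)⁻¹ * (ee ρ1 n * ee ρ c * (ee ρ1 n)⁻¹) by group] at u
    obtain ⟨j, hj, e2, e3⟩ := h.mem_ZZ.1 (mem_inf.2
      ⟨mul_mem (inv_mem (ee_mem ρ c)) (conj_mem (P.t n) (ee_mem ρ c)), u⟩)
    exact ⟨μ c j, (i_mz c (by omega) j hj e2).1, by rw [h.mul, ← e3, mul_inv_cancel_left]⟩
  obtain ⟨m1, e1, q1⟩ := f 16 (by omega)
  obtain ⟨m2, e2, q2⟩ := f 32 (by omega)
  exact h.F2 (P.t n) (cz 64 rfl) (cz 128 rfl) q1 e1 q2 e2

theorem wl (hn : n < 256) (e : n % 16 = 0) : ee ρ n ∈ ρ1.range := by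
  have h := P.h
  choose p hp q using P.tk
  have f : ∀ c, c = 16 ∨ c = 32 ∨ c = 48 → ∃ i j,
      (μ (p i % 16) (p i % 16) % 64) ^^^ (μ (p j % 16) (p j % 16) % 64) = c := fun c hc => by
    obtain ⟨m, hm, e, r⟩ := P.zb hc
    obtain ⟨i, -, j, -, rfl⟩ := i_sq m hm (by omega)
    rw [P.h1.mul, P.h1.mul, P.h1.mul] at r
    have a := (h.sqac (q i) (hp i) (by omega)).mul (h.sqac (q j) (hp j) (by omega)) (by omega) (by omega)
    have := (h.uniq a r (by decide) (by omega)).2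
    rw [β_zero, h.π_eq ((map_mul ρ _ _).trans (h.mul _ _).symm), π_uu] at this
    have := τ_inj (Nat.mod_lt _ (by omega)) (by omega) this
    exact ⟨i, j, by rw [← i_s1 _ (hp i) _ (hp j), this]⟩
  obtain ⟨i, j, e1, e2, e3⟩ : ∃ i j, μ (p i % 16) (p i % 16) % 64 ≠ 0 ∧ μ (p j % 16) (p j % 16) % 64 ≠ 0 ∧
      μ (p i % 16) (p i % 16) % 64 ≠ μ (p j % 16) (p j % 16) % 64 := by
    by_contra! k
    obtain ⟨i1, i2, e1⟩ := f 16 (by omega)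
    obtain ⟨i3, i4, e2⟩ := f 32 (by omega)
    have l := fun i => i_s4 (p i % 16) (Nat.mod_lt _ (by omega))
    have k12 := k i1 i2
    have k13 := k i1 i3
    have k14 := k i1 i4
    have k23 := k i2 i3
    have k24 := k i2 i4
    have k34 := k i3 i4
    rcases l i1 with a1 | a1 | a1 | a1 <;> rcases l i2 with a2 | a2 | a2 | a2 <;> rw [a1, a2] at e1 <;>
      simp only [Nat.reduceXor, Nat.reduceEqDiff] at e1 <;>
      rcases l i3 with a3 | a3 | a3 | a3 <;> rcases l i4 with a4 | a4 | a4 | a4 <;> rw [a3, a4] at e2 <;>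
      simp only [Nat.reduceXor, Nat.reduceEqDiff] at e2 <;> omega
  obtain ⟨m, hm, m', hm', r⟩ := i_s3 _ (Nat.mod_lt _ (by omega)) _ (Nat.mod_lt _ (by omega)) e1 e2 e3 (n / 16) (by omega)
  have u : ∀ i m, m < 16 → ee ρ (fc m (p i % 16)) ∈ ρ1.range := fun i m hm => by
    rw [← i_s2 _ (hp i) m hm, ← h.fc (q i) (hp i)]
    exact mul_mem (conj_mem (P.s m) (ee_mem ρ1 i)) (inv_mem (ee_mem ρ1 i))
  rw [show n = 16 * (n / 16) by omega, ← r, h.mul]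
  exact mul_mem (u i m hm) (u j m' hm')

theorem ww (hn : n < 256) (e : n % 16 = 0) : ∃ m < 256, m % 16 = 0 ∧ ee ρ n = ee ρ1 m := by
  have c : ∀ j, ee ρ n * ee ρ1 j = ee ρ1 j * ee ρ n := fun j => by
    obtain ⟨b, hb, q⟩ := P.tk j
    exact (P.h.fix q hb (Or.inr e)).symm
  obtain ⟨m, hm, q⟩ := P.h1.mem_TT.1 ⟨P.wl hn e, mem_C1.2 (c 16)⟩
  rw [q] at c
  exact ⟨m, hm, i_cen m hm (P.h1.comm' (c 1)) (P.h1.comm' (c 2)) (P.h1.comm' (c 4)) (P.h1.comm' (c 8)), q⟩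

theorem zl : ZZ ρ1.range ≤ ρ.range := fun x i => by
  obtain ⟨n, hn, e, rfl⟩ := P.h1.mem_ZZ.1 i
  exact P.symm.wl hn (by omega)

end Pr

theorem Sd.mk0 (h : Sd ρ) (hy : y ∉ N[ρ.range]) (hs : s ∈ C[(cr y ρ).range]) (h2 : orderOf s = 2)
    (q : Ac ρ s (τ 16) 0) : ∃ g, (cr g ρ).range = (cr y ρ).range ∧ Pr ρ (cr g ρ) := by
  have h1 := h.cj y
  have a := h.TN h1 hs h2 q
  have o : orderOf (ee ρ 64) = 2 := h.o2 (by omega) (by omega) (by decide +kernel)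
  obtain ⟨l, hl, r⟩ := h1.inn (h.WI h1 a (n := 64) (by omega) rfl) (sq_of_ord2 o)
    fun i => ne_one_of_ord2 o (h.ti' hy (h.ee_K rfl) i (sq_of_ord2 o))
  have r' := r.cr l⁻¹
  have e := cr_range_N (ρ := cr y ρ) (normG _ (inv_mem hl))
  rw [cr_cr] at r' e
  refine ⟨l⁻¹ * y, e, h, h.cj _, fun u i j => h.ti' hy i (e ▸ j), fun n => e ▸ a n,
    (h.cj _).TN h (h.ee_K (n := 64) rfl) o (by simpa [mul_assoc] using r')⟩

theorem Sd.mk1 (h : Sd ρ) (hy : y ∉ N[ρ.range]) (hs : s ∈ C[(cr y ρ).range]) (h2 : orderOf s = 2)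
    (hi : In ρ.range s) : ∃ l ∈ ρ.range, ∃ g, (cr g ρ).range = (cr (l * y) ρ).range ∧ Pr ρ (cr g ρ) := by
  obtain ⟨l, hl, q⟩ := h.inn hi (sq_of_ord2 h2) fun i => ne_one_of_ord2 h2 (h.ti' hy i hs (sq_of_ord2 h2))
  exact ⟨l, hl, h.mk0 (fun i => hy (by simpa using mul_mem (inv_mem (normG _ hl)) i))
    (mem_K_cr.2 (by simpa [mul_assoc] using mem_K_cr.1 hs)) (by rw [orderOf_conj', h2]) q⟩

theorem Sd.zl (h : Sd ρ) (hy : y ∉ N[ρ.range]) (hs : s ∈ C[(cr y ρ).range]) (h2 : orderOf s = 2)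
    (hi : In ρ.range s) : ZZ (cr y ρ).range ≤ ρ.range := fun x i => by
  obtain ⟨l, hl, g, e, P⟩ := h.mk1 hy hs h2 hi
  have := P.zl (x := l * x * l⁻¹) (e ▸ ⟨mem_cr.2 (by simpa [mul_assoc] using mem_cr.1 i.1),
    mem_K_cr.2 (by simpa [mul_assoc] using mem_K_cr.1 i.2)⟩)
  simpa [mul_assoc] using conj_mem' (normG _ hl) this

namespace Pr
variable (P : Pr ρ ρ1)
include P

theorem TT_eq : TT ρ1 = TT ρ := by
  have h := P.h
  have h1 := P.h1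
  obtain ⟨n, hn, e, q⟩ := P.symm.zb (c := 16) (by omega)
  obtain ⟨n0, hn0, e0, q0⟩ := h1.code0 q (P.wl hn (by omega)) (by omega)
  have o : orderOf (ee ρ n) = 2 := ord2_iff.2 ⟨h.ZZ_sq (h.ee_ZZ e), q0 ▸ h1.ne1 hn0 (by omega)⟩
  have f : ∀ j < 16, j ≠ 0 → μ j j = 0 → ee ρ1 j ∈ ρ.range := fun j hj j0 j2 => by
    have a := (i_mz j (by omega) (64 * (n0 / 64)) (by omega) (by omega)).2
    have zc := h1.ee_ZZ (n := 64 * (n0 / 64)) (by omega)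
    obtain ⟨l, hl, r⟩ := h1.invT (n := j + 64 * (n0 / 64)) (by omega) (by omega) (h1.sq0' (by
      rw [← a, h1.mul, mul_assoc, ← mul_assoc (ee ρ1 (64 * _)), ← mem_C.1 zc.2 _ (ee_mem ρ1 j), mul_assoc,
        h1.ZZ_sq zc, mul_one, h1.sq0 j2]))
    rw [show 16 + 64 * ((j + 64 * (n0 / 64)) / 64) = n0 by omega, ← q0] at r
    have r' : ee ρ1 (j + 64 * (n0 / 64)) = l⁻¹ * ee ρ n * l⁻¹⁻¹ := by rw [← r]; group
    have : ee ρ1 (j + 64 * (n0 / 64)) ∈ ρ.range := by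
      by_cases i : l⁻¹ ∈ N[ρ.range]
      · exact r' ▸ conj_mem i (ee_mem ρ n)
      · obtain ⟨b, -, u⟩ := P.tk (j + 64 * (n0 / 64))
        have v : ee ρ1 (j + 64 * (n0 / 64)) ∈ ZZ (cr l⁻¹ ρ).range := r' ▸ (h.cj l⁻¹).ee_ZZ e
        exact h.zl i v.2 (by rw [r', orderOf_conj', o]) (in_of_ac u) v
    rw [← a, h1.mul] at this
    simpa using mul_mem this (inv_mem (P.zl zc))
  have le := h1.gen (f 1 (by omega) (by omega) (by decide +kernel)) (f 2 (by omega) (by omega) (by decide +kernel))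
    (f 4 (by omega) (by omega) (by decide +kernel)) (f 8 (by omega) (by omega) (by decide +kernel))
  refine eq_of_le_of_card_ge (fun x i => ⟨le i, ?_⟩) (by rw [h.card_TT, h1.card_TT])
  obtain ⟨j, -, rfl⟩ := h1.mem_TT.1 i
  obtain ⟨b, hb, u⟩ := P.tk j
  exact mem_C1.2 (h.fix u hb (Or.inr rfl))

theorem dj2 (i : a ∈ C[ρ.range]) (j : a ∈ C[ρ1.range]) (h2 : PiE {2} a) : a = 1 := by
  by_contra n
  obtain ⟨y, hy, p⟩ := exists_prime_pow_mem n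
  have o : orderOf y = 2 := (h2.of_mem_zpowers hy).eq_prime p dvd_rfl
  exact ne_one_of_ord2 o (P.dj y (zpowers_le.2 i hy) (zpowers_le.2 j hy) (sq_of_ord2 o))

theorem k2 (i : a ∈ C[ρ.range]) (h2 : PiE {2} a) : a ∈ ρ.range := by
  have h1 := P.h1
  have c : ∀ n, a * ee ρ1 n * a⁻¹ = ee ρ1 n := fun n => by
    rw [← mem_C.1 i _ (P.TT_eq ▸ h1.ee_TT n).1, mul_inv_cancel_right]
  obtain ⟨b, hb, q⟩ := h1.F2 (h1.cenN (h1.ee_K (n := 64) rfl) (h1.o2 (by omega) (by omega) (by decide +kernel))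
    (mul_inv_eq_iff_eq_mul.1 (c 64))) (c 64) (c 128) (c 16) rfl (c 32) rfl
  have f : ∀ n < 256, al b 0 n = n := fun n hn => h1.inj (al_lt _ _ _) hn ((h1.al q hb (by omega) n).symm.trans (c n))
  have e := i_al b hb (f 1 (by omega)) (f 2 (by omega)) (f 4 (by omega)) (f 8 (by omega))
  by_cases b0 : b = 0
  · subst b0
    rw [P.dj2 i (by simpa [τ_zero] using q.K) h2]; exact one_mem _
  · obtain ⟨n, hn, e', r⟩ := P.symm.zb (c := b) (by omega)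
    have := P.dj2 (mul_mem (inv_mem (P.h.ee_K e')) i) (ac_K2 r q)
      ((P.h.pig_TT.elt (P.h.ee_TT n)).inv.mul h2 (mem_C.1 i _ (inv_mem (ee_mem ρ n))))
    rw [← inv_mul_eq_one.1 this]; exact ee_mem ρ n

theorem nsq (hn : n < 256) (hm : m < 256) (q : ee ρ1 n = ee ρ m) (e : m % 16 = 0) (e' : n < 64 ∨ n % 64 = 0) :
    m < 64 ∨ m % 64 = 0 := by
  rcases i_ns m hm e with i | i | ⟨a, -, rfl⟩
  · exact Or.inl i
  · exact Or.inr i
  · obtain ⟨a', ha', r⟩ := P.h1.mem_TT.1 (P.TT_eq ▸ P.h.ee_TT a)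
    rw [P.h.mul, r, ← P.h1.mul] at q
    have := P.h1.inj hn (μ_lt _ _) q
    have z := i_ns' a' ha' (this ▸ e')
    exact Or.inl (by rw [P.h.sq0' (by rw [r, P.h1.sq0 z])]; omega)

theorem sw1 (hn : n < 256) (e : n % 64 = 0) : ∃ m < 64, m % 16 = 0 ∧ ee ρ1 n = ee ρ m := by
  obtain ⟨m, hm, e', q⟩ := P.symm.ww hn (by omega)
  rcases P.nsq hn hm q e' (Or.inr e) with i | i
  · exact ⟨m, i, e', q⟩
  · exact ⟨0, by omega, rfl, by
      rw [ee_zero]; exact P.dj _ (q ▸ P.h.ee_K i) (P.h1.ee_K e) (P.h1.ZZ_sq (P.h1.ee_ZZ e))⟩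

theorem sw2 (hm : m < 64) (e : m % 16 = 0) : ∃ n < 256, n % 64 = 0 ∧ ee ρ1 m = ee ρ n := by
  obtain ⟨n, hn, e', q⟩ := P.symm.ww (n := m) (by omega) e
  refine ⟨n, hn, ?_, q⟩
  by_contra k
  have i := (P.nsq (by omega) hn q e' (Or.inl hm)).resolve_right k
  obtain ⟨n', hn', e1, r⟩ := P.zb (c := n) (by omega)
  obtain ⟨m', hm', -, r'⟩ := P.sw1 hn' e1
  rw [r', ee_lt ρ hm'] at r
  have := τ_inj i hm' (P.h.uniq r (ac_inn ρ _) (by omega) (by omega)).2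
  have := P.h1.inj (by omega) hn' (q.trans (this ▸ r'.symm))
  obtain rfl : m = 0 := by omega
  exact P.h.ne1 hn (by omega) (by rw [← q, ee_zero])

end Pr

theorem Sd.sw (h : Sd ρ) {y s : G} (hy : y ∉ N[ρ.range]) (hs : s ∈ C[(cr y ρ).range]) (h2 : orderOf s = 2)
    (hi : In ρ.range s) : ∃ g, Sw ρ g := by
  obtain ⟨l, hl, g, e, P⟩ := h.mk1 hy hs h2 hi
  refine ⟨g, h, fun u => P.k2, h.nT fun n _ => P.TT_eq ▸ P.h1.ee_TT n, fun n => P.sw1, fun m => P.sw2,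
    fun y i s j k l => h.zl i j k l, fun n hn => ⟨?_, ?_⟩⟩
  · rintro ⟨u, i, o, c⟩
    have o' := orderOf_isConj c ▸ o
    have n2 := h.sq0' (sq_of_ord2 o')
    refine ⟨fun e => ne_one_of_ord2 o' (by rw [e, ee_zero]), n2, ?_⟩
    by_contra! k
    obtain ⟨l, hl, r⟩ := h.invT hn k.2 n2
    obtain ⟨y, c⟩ := isConj_iff.1 c
    have r' : l * y * u * (l * y)⁻¹ = ee ρ (16 + 64 * (n / 64)) := by rw [← r, ← c]; group
    have sK : ee ρ (16 + 64 * (n / 64)) ∈ C[(cr (l * y) ρ).range] := mem_K_cr.2 (by rw [← r']; simpa [mul_assoc] using i)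
    have o2 : orderOf (ee ρ (16 + 64 * (n / 64))) = 2 := by rw [← r', orderOf_conj', o]
    obtain ⟨g', e', P'⟩ := h.mk0 (y := l * y) (fun j => by
      have := h.eeK (r' ▸ conj_mem (N_le_NC' j) i); omega) sK o2 (ac_of_K (by
        rw [← ee_lt ρ (by omega), ← (i_mz 16 (by omega) (64 * (n / 64)) (by omega) (by omega)).2, h.mul,
          inv_mul_cancel_left]
        exact h.ee_K (by omega)))
    rw [← e'] at sK
    obtain ⟨n', hn', e1, r1⟩ := P'.h1.mem_ZZ.1 ⟨P'.symm.k2 sK (pie_of_pow Nat.prime_two (by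
      rw [← o2, pow_orderOf_eq_one])), sK⟩
    obtain ⟨m, hm, -, r2⟩ := P'.sw1 hn' e1
    have := h.inj (by omega) (by omega) (r1.trans r2)
    omega
  · rintro ⟨n0, n2, i⟩
    have o := h.o2 hn n0 n2
    by_cases k : n % 64 = 0
    · exact ⟨_, h.ee_K k, o, IsConj.refl _⟩
    · obtain ⟨l, hl, r⟩ := h.invT hn k n2
      rw [show 16 + 64 * (n / 64) = 16 by omega] at r
      obtain ⟨m, -, e1, r1⟩ := P.sw2 (m := 16) (by omega) rfl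
      have c : IsConj (ee ρ n) (ee ρ m) := isConj_iff.2 ⟨g * l, by rw [← r1, ee_cr, ← r]; group⟩
      exact ⟨_, h.ee_K e1, orderOf_isConj c ▸ o, c.symm⟩

end Cfsg.Agent.HQ
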