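import Cfsg.Agent.HQ.E1

/-! # Standard subgroups `2².L3(4)`: the subgroup `T⟨a, b⟩` -/

set_option autoImplicit false
set_option linter.unusedVariables false
set_option linter.unusedSectionVars false
set_option maxRecDepth 100000
set_option synthInstance.maxSize 100000
set_option synthInstance.maxHeartbeats 400000

namespace Cfsg.Agent.HQ
open Subgroup Cfsg.Agent.Spor Cfsg.Agent.Spor.OnD Cfsg.Agent.H8On Cfsg.Agent.BG Cfsg.Agent.Inv
open Cfsg.Agent.SO (Ac cr cr_apply cr_range ac_inn ac_K ac_of_K N_le_NC' mem_K β_xor β_inj idx_cen)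

variable {G : Type*} [Group G] [Finite G] {ρ : U →* G} {g a b : G}

/-- the four-groups `V₁, V₂, Z', Z` (`k = 1, 4, 16, 64`) -/
def VS (ρ : U →* G) (k : ℕ) : Set G := {x | ∃ j : Fin 4, x = ee ρ (k * j)}
/-- `y A y⁻¹ = B` -/
def Mp (y : G) (A B : Set G) : Prop := ∀ x, x ∈ A ↔ y * x * y⁻¹ ∈ B
/-- `y` centralises `A` -/
def Fx (y : G) (A : Set G) : Prop := ∀ x ∈ A, y * x * y⁻¹ = x
def KS (k : ℕ) : Prop := k = 1 ∨ k = 4 ∨ k = 16 ∨ k = 64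
/-- `y` acts on `T` as `ac i` -/
def AA (ρ : U →* G) (i : ℕ) (y : G) : Prop := ∀ n, y * ee ρ n * y⁻¹ = ee ρ (ac i n)
/-- powers of the automorphism of order `3` -/
noncomputable def ph (i n : ℕ) : ℕ := Nat.rec n (fun _ m => Act 2 3 8 12 m) i
def Ok (p q r s t : ℕ) : Prop := (V1 p q ∧ V2 r s ∨ V2 p q ∧ V1 r s) → Act p q r s 64 < 64 →
  ∃ i < 3, ∀ j < 4, Act p q r s (ph i (2 ^ j)) = ph i (ac t (2 ^ j))
noncomputable instance instDecOk (p q r s t : ℕ) : Decidable (Ok p q r s t) := by unfold Ok; infer_instance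

theorem c_N0 : ∀ k ∈ [1, 4, 16, 64], ∀ p < 4, ∀ q < 4, μ (k * p) (k * q) = k * (p ^^^ q) := by decide +kernel
theorem c_N1 : ∀ i < 4, ∀ j < 4, ∀ n < 256, ac i (ac j n) = ac (i ^^^ j) n := by decide +kernel
theorem c_N2 : ∀ m < 16, ∀ r < 16, ∀ s < 16, Ok (μ (μ m 1) (iv m)) (μ (μ m 2) (iv m)) r s 1 ∧
    Ok r s (μ (μ m 4) (iv m)) (μ (μ m 8) (iv m)) 2 := by decide +kernel
theorem c_N3 : ∀ i < 3, 0 < i → ∀ w < 256, w % 16 = 0 → ac i w = w → ∃ u < 16, μ (μ (16 * u) (ac i (16 * u))) w = 0 := by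
  decide +kernel
theorem c_N4 : ∀ w < 256, w % 16 = 0 → ac 1 w = w → ac 2 w = w → ∃ u < 16, μ (16 * u) (ac 2 (16 * u)) = 0 ∧
    μ (μ (ac 1 (16 * u)) (ac 3 (ac 1 (16 * u)))) w = 0 := by decide +kernel
theorem c_N5 : ∀ w < 256, w % 16 = 0 → μ w w = 0 := by decide +kernel
theorem c_N6 : ∀ i < 3, 0 < i → ∀ n < 256,
    Act (ac i 1) (ac i 2) (ac i 4) (ac i 8) n = ac i n := by decide +kernel

theorem mb_lt {x : ℕ} (h : x < 256) (g e i : ℕ) : mb x g e i < 256 := by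
  unfold mb
  cases Nat.testBit e i
  exacts [h, μ_lt _ _]
theorem Act_lt (p q r s n : ℕ) : Act p q r s n < 256 := by
  rw [Act, frc_eq]
  exact mb_lt (mb_lt (mb_lt (mb_lt (mb_lt (mb_lt (mb_lt (mb_lt (by omega) _ _ _) _ _ _) _ _ _) _ _ _) _ _ _) _ _ _)
    _ _ _) _ _ _

section
variable {A B C : Set G} {y y' l : G} {k k' p q r s i j : ℕ}
omit [Finite G]
theorem Mp.mul (h : Mp y B C) (h' : Mp y' A B) : Mp (y * y') A C := fun x => by
  rw [h' x, h, mul_inv_rev]; simp only [mul_assoc]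
theorem Mp.inv (h : Mp y A B) : Mp y⁻¹ B A := fun x => by rw [h]; simp [mul_assoc]
theorem Fx.mp (h : Fx y A) : Mp y A A := fun x => ⟨fun i => by rwa [h x i], fun i => by
  rwa [mul_left_cancel (mul_right_cancel (h _ i))] at i⟩
theorem Fx.cj (h : Fx l A) (h' : Mp y A B) : Fx (y * l * y⁻¹) B := fun x i => by
  have := h _ ((h'.inv x).1 i)
  calc _ = y * (l * (y⁻¹ * x * y⁻¹⁻¹) * l⁻¹) * y⁻¹ := by group
    _ = x := by rw [this]; group
theorem vs_mem (hj : j < 4) : ee ρ (k * j) ∈ VS ρ k := ⟨⟨j, hj⟩, rfl⟩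
theorem Sd.mp_of (h : Sd ρ) (hk : KS k) (f : ∀ j : Fin 4, y * ee ρ (k * j) * y⁻¹ ∈ VS ρ k') :
    Mp y (VS ρ k) (VS ρ k') := by
  choose φ e using f
  have i : Function.Injective φ := fun j j' c => by
    have := h.inj (n := k * j) (m := k * j') (by rcases hk with rfl | rfl | rfl | rfl <;> omega)
      (by rcases hk with rfl | rfl | rfl | rfl <;> omega) (mul_left_cancel (mul_right_cancel ((e j).trans (c ▸ (e j').symm))))
    rcases hk with rfl | rfl | rfl | rfl <;> omega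
  refine fun x => ⟨by rintro ⟨j, rfl⟩; exact ⟨_, e j⟩, fun ⟨j, c⟩ => ?_⟩
  obtain ⟨j, rfl⟩ := Finite.surjective_of_injective i j
  exact ⟨j, by simpa using c.trans (e j).symm⟩
theorem Sd.mp_gen (h : Sd ρ) (hk : KS k) (hk' : KS k') (hp : p < 4) (hq : q < 4)
    (h1 : y * ee ρ (k * 1) * y⁻¹ = ee ρ (k' * p)) (h2 : y * ee ρ (k * 2) * y⁻¹ = ee ρ (k' * q)) :
    Mp y (VS ρ k) (VS ρ k') := h.mp_of hk fun j => by
  have m : ∀ {k}, KS k → k ∈ [1, 4, 16, 64] := fun i => by simpa [KS] using i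
  fin_cases j
  · exact ⟨0, by simp [ee_zero]⟩
  · exact h1 ▸ vs_mem hp
  · exact h2 ▸ vs_mem hq
  · change y * ee ρ (k * (1 ^^^ 2)) * y⁻¹ ∈ _
    rw [← c_N0 k (m hk) 1 (by omega) 2 (by omega), h.mul, ← conj_mul, h1, h2, ← h.mul, c_N0 k' (m hk') p hp q hq]
    exact vs_mem (Nat.xor_lt_two_pow (n := 2) hp hq)
theorem Sd.im (h : Sd ρ) (a : Ax ρ y p q r s) : y * ee ρ 1 * y⁻¹ = ee ρ p ∧ y * ee ρ 2 * y⁻¹ = ee ρ q ∧
    y * ee ρ 4 * y⁻¹ = ee ρ r ∧ y * ee ρ 8 * y⁻¹ = ee ρ s := by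
  have z : ∀ n, ee ρ (μ 0 n) = ee ρ n := fun n => by rw [h.mul, ee_zero, one_mul]
  refine ⟨?_, ?_, ?_, ?_⟩
  · rw [a, Act, frc_eq, show by8 TN (Nat.mod 1 256) = 1 by decide +kernel]; exact z p
  · rw [a, Act, frc_eq, show by8 TN (Nat.mod 2 256) = 2 by decide +kernel]; exact z q
  · rw [a, Act, frc_eq, show by8 TN (Nat.mod 4 256) = 4 by decide +kernel]; exact z r
  · rw [a, Act, frc_eq, show by8 TN (Nat.mod 8 256) = 8 by decide +kernel]; exact z s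
theorem Sd.wl (h : Sd ρ) {l : List ℕ} {a r : ℕ} (ha : a < 64) (hr : r < 1024)
    (e : OnD.A.isW TX (cjw l (nth [] TW a)) (mU r) = true) :
    ρ (w l) * ee ρ a * (ρ (w l))⁻¹ = ee ρ (r % 64 + 64 * (r / 64 % 2) + 128 * (r / 256 % 2)) := by
  rw [ee_lt ρ ha, ← map_inv, ← map_mul, ← map_mul, w_cj hr e, h.ρ_eU]
theorem Sd.fxZ (h : Sd ρ) (hl : l ∈ ρ.range) : Fx l (VS ρ 64) := by
  rintro _ ⟨j, rfl⟩
  rw [mem_C.1 (h.ee_K (by omega)) l hl, mul_inv_cancel_right]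
theorem Sd.cenW (h : Sd ρ) (hj : j < 16) (n : ℕ) : ee ρ (16 * j) * ee ρ n = ee ρ n * ee ρ (16 * j) := by
  rw [← h.ee_mod n]; exact h.comm (c_Y3 j hj _ (Nat.mod_lt _ (by omega)))
theorem Sd.fxW (h : Sd ρ) (m : ℕ) : Fx (ee ρ m) (VS ρ 16) := by
  rintro _ ⟨j, rfl⟩
  rw [← h.cenW (by omega), mul_inv_cancel_right]
theorem Sd.exl (h : Sd ρ) (hk : k = 1 ∨ k = 4) : ∃ l ∈ ρ.range, Mp l (VS ρ k) (VS ρ 16) ∧ Mp l (VS ρ 16) (VS ρ k) := by
  rcases hk with rfl | rfl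
  · exact ⟨_, ⟨w [2, 4, 2], rfl⟩, h.mp_gen (p := 2) (q := 3) (by simp [KS]) (by simp [KS]) (by omega) (by omega)
      (h.wl (a := 1) (r := 544) (by omega) (by omega) (by decide +kernel))
      (h.wl (a := 2) (r := 560) (by omega) (by omega) (by decide +kernel)),
      h.mp_gen (p := 3) (q := 1) (by simp [KS]) (by simp [KS]) (by omega) (by omega)
      (h.wl (a := 16) (r := 3) (by omega) (by omega) (by decide +kernel))
      (h.wl (a := 32) (r := 513) (by omega) (by omega) (by decide +kernel))⟩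
  · exact ⟨_, ⟨w [7, 5, 6, 5], rfl⟩, h.mp_gen (p := 2) (q := 3) (by simp [KS]) (by simp [KS]) (by omega) (by omega)
      (h.wl (a := 4) (r := 32) (by omega) (by omega) (by decide +kernel))
      (h.wl (a := 8) (r := 176) (by omega) (by omega) (by decide +kernel)),
      h.mp_gen (p := 3) (q := 1) (by simp [KS]) (by simp [KS]) (by omega) (by omega)
      (h.wl (a := 16) (r := 140) (by omega) (by omega) (by decide +kernel))
      (h.wl (a := 32) (r := 4) (by omega) (by omega) (by decide +kernel))⟩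
theorem Sd.exh (h : Sd ρ) (i : ℕ) : ∃ x : G, ∀ n, x * ee ρ n * x⁻¹ = ee ρ (ph i n) := by
  have a : Ax ρ (ρ (w [0])) 2 3 8 12 := h.ax (h.wl (r := 514) (by omega) (by omega) (by decide +kernel))
    (h.wl (r := 3) (by omega) (by omega) (by decide +kernel)) (h.wl (r := 8) (by omega) (by omega) (by decide +kernel))
    (h.wl (r := 140) (by omega) (by omega) (by decide +kernel))
  induction i with
  | zero => exact ⟨1, fun n => by simp [ph]⟩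
  | succ i ih =>
    obtain ⟨x, e⟩ := ih
    exact ⟨ρ (w [0]) * x, fun n => by
      rw [show ph (i + 1) n = Act 2 3 8 12 (ph i n) from rfl, ← a, ← e]; group⟩
theorem Sw.mp1 (h : Sw ρ g) : Mp g (VS ρ 64) (VS ρ 16) := h.sd.mp_of (by simp [KS]) fun j => by
  obtain ⟨m, hm, m0, e⟩ := h.sw1 (64 * j) (by omega) (by omega)
  rw [e, show m = 16 * (m / 16) by omega]; exact vs_mem (by omega)
theorem Sw.mp2 (h : Sw ρ g) : Mp g (VS ρ 16) (VS ρ 64) := h.sd.mp_of (by simp [KS]) fun j => by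
  obtain ⟨m, hm, m0, e⟩ := h.sw2 (16 * j) (by omega) (by omega)
  rw [e, show m = 64 * (m / 64) by omega]; exact vs_mem (by omega)
theorem Sd.aam (h : Sd ρ) (a : AA ρ i y) (b : AA ρ j y') (hi : i < 4) (hj : j < 4) : AA ρ (i ^^^ j) (y * y') := fun n => by
  rw [← ac_mod, ← c_N1 i hi j hj _ (Nat.mod_lt _ (by omega)), ac_mod, ← a, ← b]; group
theorem Sd.aa0 (h : Sd ρ) : AA ρ 0 y ↔ y ∈ C[TT ρ] := by
  have : ∀ n, ee ρ (ac 0 n) = ee ρ n := fun n => by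
    rw [← ac_mod, (c_ac0 _ (Nat.mod_lt _ (by omega))).2.1, h.ee_mod]
  refine ⟨fun a => mem_C.2 fun x i => ?_, fun a n => ?_⟩
  · obtain ⟨n, -, rfl⟩ := h.mem_TT.1 i
    exact (mul_inv_eq_iff_eq_mul.1 ((a n).trans (this n))).symm
  · rw [this, ← mem_C.1 a _ (h.ee_TT n), mul_inv_cancel_right]
theorem Sd.aaW (h : Sd ρ) (a : AA ρ i y) (hj : j < 16) : AA ρ i (ee ρ (16 * j) * y) := fun n => by
  rw [show ee ρ (16 * j) * y * ee ρ n * (ee ρ (16 * j) * y)⁻¹ =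
    ee ρ (16 * j) * (y * ee ρ n * y⁻¹) * (ee ρ (16 * j))⁻¹ by group, a, h.cenW hj, mul_inv_cancel_right]
theorem Sd.aas (h : Sd ρ) (a : AA ρ i y) {u w : ℕ} (e : y * y = ee ρ w) (c : μ (μ u (ac i u)) w = 0) :
    ee ρ u * y * (ee ρ u * y) = 1 := by
  rw [← ee_zero ρ, ← c, h.mul, h.mul, ← a, ← e]; group
end

theorem Sw.exg (h : Sw ρ g) {k : ℕ} (hk : k = 1 ∨ k = 4) :
    ∃ y ∈ N[TT ρ], Fx y (VS ρ k) ∧ Mp y (VS ρ 64) (VS ρ 16) := by
  obtain ⟨m, -, p, q, r, s, a, v⟩ := h.e1 h.nT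
  obtain ⟨a1, a2, a4, a8⟩ := h.sd.im a
  have g1 := (h.sd.fxW m).mp.mul h.mp1
  have g2 := (h.sd.fxZ (ee_mem ρ m)).mp.mul h.mp2
  generalize ee ρ m * g = g' at *
  have f1 : ∀ {k p q}, k = 1 ∨ k = 4 → V1 p q → g' * ee ρ (k * 1) * g'⁻¹ = ee ρ p → g' * ee ρ (k * 2) * g'⁻¹ = ee ρ q →
      Mp g' (VS ρ k) (VS ρ 1) := fun {k p q} i v b c => h.sd.mp_gen (by unfold KS; omega) (by simp [KS]) v.2.1 v.2.2.2.1
    (by rwa [one_mul]) (by rwa [one_mul])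
  have f4 : ∀ {k p q}, k = 1 ∨ k = 4 → V2 p q → g' * ee ρ (k * 1) * g'⁻¹ = ee ρ p → g' * ee ρ (k * 2) * g'⁻¹ = ee ρ q →
      Mp g' (VS ρ k) (VS ρ 4) := fun {k p q} i v b c => h.sd.mp_gen (by unfold KS; omega) (by simp [KS]) v.2.2.2.1
    v.2.2.2.2.2.1 (by rw [b]; congr 1; have := v.1; omega) (by rw [c]; congr 1; have := v.2.1; omega)
  obtain ⟨k', hk', g3⟩ : ∃ k', (k' = 1 ∨ k' = 4) ∧ Mp g' (VS ρ k') (VS ρ k) := by
    rcases hk with rfl | rfl <;> rcases v with v | v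
    exacts [⟨1, by omega, f1 (by omega) v.1 a1 a2⟩, ⟨4, by omega, f1 (by omega) v.2 a4 a8⟩,
      ⟨4, by omega, f4 (by omega) v.2 a4 a8⟩, ⟨1, by omega, f4 (by omega) v.1 a1 a2⟩]
  obtain ⟨l, hl, l1, l2⟩ := h.sd.exl hk
  obtain ⟨l', hl', l1', l2'⟩ := h.sd.exl hk'
  have b1 := (g3.mul l2').mul g2.inv
  have b2 := ((h.sd.fxZ hl').cj g1).mp
  have b3 := (g2.mul l1').mul g3.inv
  generalize g' * l' * g'⁻¹ = u at *
  have c1 := (b2.mul l1).mul b3.inv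
  have c2 := (b3.mul l2).mul b2.inv
  refine ⟨_, ?_, (h.sd.fxZ hl).cj b1, c1⟩
  generalize u * l * u⁻¹ = y at *
  obtain ⟨j, e⟩ := ((h.mp2.mul c1) _).1 (vs_mem (j := 1) (by omega))
  have nN := h.sd.ti _ (h.sd.ee_K (n := 64 * 1) rfl) (h.sd.o2 (by omega) (by omega) (by decide +kernel)) (g * y)
    (by rw [e]; exact h.sd.ee_K (by omega))
  obtain ⟨j, e⟩ := (c2 _).1 (vs_mem (j := 1) (by omega))
  refine inv_mem_iff.1 (h.sd.nT fun n _ => ⟨?_, mem_C1.2 ?_⟩)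
  · rw [show y⁻¹ * ee ρ n * y⁻¹⁻¹ = (g * y)⁻¹ * (g * ee ρ n * g⁻¹) * (g * y) by group]
    exact conj_mem' nN (conj_mem h.nT (h.sd.ee_TT n)).1
  · have := mem_C.1 (h.sd.ee_K (n := 64 * j) (by omega)) _ (ee_mem ρ n)
    rw [← e] at this
    calc _ = y⁻¹ * (ee ρ n * (y * ee ρ (16 * 1) * y⁻¹)) * y := by group
      _ = _ := by rw [this]; group

theorem Sw.exa (h : Sw ρ g) {t : ℕ} (ht : t = 1 ∨ t = 2) : ∃ y, AA ρ t y := by
  obtain ⟨y, hy, fx, mp⟩ := h.exg (k := t * t) (by rcases ht with rfl | rfl <;> omega)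
  obtain ⟨m, hm, p, q, r, s, a, v⟩ := h.e1 hy
  obtain ⟨a1, a2, a4, a8⟩ := h.sd.im a
  have l : p < 16 ∧ q < 16 ∧ r < 16 ∧ s < 16 := by unfold V2 V1 at v; omega
  have f : ∀ j < 4, ∀ p < 16, ee ρ m * y * ee ρ (t * t * j) * (ee ρ m * y)⁻¹ = ee ρ p →
      p = μ (μ m (t * t * j)) (iv m) := fun j hj p hp e => h.sd.inj (by omega) (μ_lt _ _) (by
    rw [h.sd.mul, h.sd.mul, h.sd.iv, ← e, ← fx _ (vs_mem hj)]
    rw [show ∀ x, ee ρ m * y * x * (ee ρ m * y)⁻¹ = ee ρ m * (y * x * y⁻¹) * (ee ρ m)⁻¹ from fun x => by group,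
      fx _ (vs_mem hj), fx _ (vs_mem hj)])
  have ok : Ok p q r s t := by
    rcases ht with rfl | rfl
    · rw [f 1 (by omega) p l.1 a1, f 2 (by omega) q l.2.1 a2]
      exact (c_N2 m hm r l.2.2.1 s l.2.2.2).1
    · rw [f 1 (by omega) r l.2.2.1 a4, f 2 (by omega) s l.2.2.2 a8]
      exact (c_N2 m hm p l.1 q l.2.1).2
  obtain ⟨j, e⟩ := (((h.sd.fxW m).mp.mul mp) _).1 (vs_mem (j := 1) (by omega))
  obtain ⟨i, -, c⟩ := ok v (by
    rw [h.sd.inj (Act_lt _ _ _ _ _) (by omega) ((a 64).symm.trans e)]; omega)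
  obtain ⟨x, hx⟩ := h.sd.exh i
  have k : ∀ j < 4, x⁻¹ * (ee ρ m * y) * x * ee ρ (2 ^ j) * (x⁻¹ * (ee ρ m * y) * x)⁻¹ = ee ρ (ac t (2 ^ j)) :=
    fun j hj => by
      calc _ = x⁻¹ * (ee ρ m * y * (x * ee ρ (2 ^ j) * x⁻¹) * (ee ρ m * y)⁻¹) * x := by group
        _ = _ := by rw [hx, a, c j hj, ← hx]; group
  refine ⟨x⁻¹ * (ee ρ m * y) * x, fun n => ?_⟩
  rw [h.sd.ax (k 0 (by omega)) (k 1 (by omega)) (k 2 (by omega)) (k 3 (by omega)) n, ← Act_mod, ← ac_mod t n]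
  exact congrArg _ (c_N6 t (by omega) (by omega) _ (Nat.mod_lt _ (by omega)))

theorem Sw.exi (h : Sw ρ g) {t : ℕ} (ht : t = 1 ∨ t = 2) : ∃ y, AA ρ t y ∧ y * y = 1 := by
  obtain ⟨y, a⟩ := h.exa ht
  have t4 : t < 4 := by omega
  have y2 : y * y ∈ C[TT ρ] := h.sd.aa0.1 (by simpa using h.sd.aam a a t4 t4)
  obtain ⟨o, ⟨k, rfl⟩, e, p⟩ := cst_spec {2} y
  have oC : y ^ k ∈ C[TT ρ] := by
    have c : (orderOf (y ^ k)).Coprime 2 := ((Nat.Prime.coprime_iff_not_dvd Nat.prime_two).2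
      fun i => p 2 Nat.prime_two i rfl).symm
    obtain ⟨s, hs⟩ := exists_pow_eq_self_of_coprime c.symm
    rw [← hs, ← zpow_natCast (y ^ k) 2, ← zpow_mul, mul_comm, zpow_mul, zpow_natCast, pow_two]
    exact pow_mem (zpow_mem y2 _) _
  have a' : AA ρ t (cst {2} y) := by
    have := h.sd.aam a (h.sd.aa0.2 (inv_mem oC)) t4 (by omega)
    rwa [Nat.xor_zero, ← eq_mul_inv_of_mul_eq e.symm] at this
  have p' := cst_pie {2} y
  generalize cst {2} y = c at *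
  obtain ⟨w, hw, w0, e⟩ := h.cenT (h.sd.aa0.1 (by simpa using h.sd.aam a' a' t4 t4)) (p'.mul p' rfl)
  obtain ⟨u, hu, i⟩ := c_N3 t (by omega) (by omega) w hw w0 (h.sd.inj (ac_lt _ _) hw (by rw [← a', ← e]; group))
  exact ⟨_, h.sd.aaW a' hu, h.sd.aas a' e i⟩

theorem Sw.ut (h : Sw ρ g) : ∃ a b, Ut ρ g a b := by
  obtain ⟨a, a1, aa⟩ := h.exi (t := 1) (by omega)
  obtain ⟨b, b1, bb⟩ := h.exi (t := 2) (by omega)
  let E := finSub {y | ∃ i < 4, AA ρ i y} ⟨0, by omega, h.sd.aa0.2 (one_mem _)⟩ (by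
    rintro x ⟨i, hi, p⟩ y ⟨j, hj, q⟩
    exact ⟨_, Nat.xor_lt_two_pow (n := 2) hi hj, h.sd.aam p q hi hj⟩)
  have pe : ∀ {x : G}, x * x = 1 → PiG {2} (zpowers x) := fun e =>
    pig_zpowers.2 (pie_of_pow Nat.prime_two (by rwa [pow_two]))
  obtain ⟨P, hP, l⟩ := syl_superset Nat.prime_two (M := E) (zpowers_le.2 ⟨1, by omega, a1⟩) (pe aa)
  obtain ⟨c, hc, l'⟩ := hP.cj_sub Nat.prime_two (zpowers_le.2 ⟨2, by omega, b1⟩) (pe bb)
  have bP := l' (mem_cj_conj.2 (mem_zpowers b))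
  have b1 : AA ρ 2 (c * b * c⁻¹) := by
    obtain ⟨j, hj, q⟩ := inv_mem hc
    obtain ⟨i, hi, p⟩ := hc
    have e := h.sd.aam p q hi hj
    have : i ^^^ j = 0 := (by decide +kernel : ∀ i < 4, 32 = ac i 32 → i = 0) _ (Nat.xor_lt_two_pow (n := 2) hi hj)
      (h.sd.inj (by omega) (ac_lt _ _) (by simpa using e 32))
    obtain rfl := Nat.xor_eq_zero_iff.1 this
    have := h.sd.aam (h.sd.aam p b1 hi (by omega)) q (Nat.xor_lt_two_pow (n := 2) hi (by omega)) hi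
    rwa [Nat.xor_comm i, Nat.xor_assoc, Nat.xor_self, Nat.xor_zero] at this
  have bb : c * b * c⁻¹ * (c * b * c⁻¹) = 1 := by rw [conj_mul, bb]; group
  generalize c * b * c⁻¹ = b at *
  have ab : AA ρ 3 (a * b) := (show 1 ^^^ 2 = 3 from rfl) ▸ h.sd.aam a1 b1 (by omega) (by omega)
  have abP := mul_mem (l (mem_zpowers a)) bP
  obtain ⟨w, hw, w0, e⟩ := h.cenT (h.sd.aa0.1 (by simpa using h.sd.aam ab ab (by omega) (by omega)))
    (hP.pi.elt (mul_mem abP abP))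
  have ai := inv_eq_of_mul_eq_one_right aa
  have bi := inv_eq_of_mul_eq_one_right bb
  have e' : b * a * (b * a) = ee ρ w := by
    rw [← inv_eq_of_mul_eq_one_right (h.sd.sq0 (c_N5 w hw w0)), ← e]; simp [ai, bi, mul_assoc]
  obtain ⟨u, hu, i, j⟩ := c_N4 w hw w0
    (h.sd.inj (ac_lt _ _) hw (by
      rw [← a1, ai]; nth_rw 1 [← e]; rw [← e']; simp only [← mul_assoc, aa, one_mul]))
    (h.sd.inj (ac_lt _ _) hw (by
      rw [← b1, bi]; nth_rw 1 [← e]; rw [← e']; simp only [mul_assoc, bb, mul_one]))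
  have s1 := h.sd.aas b1 (bb.trans (ee_zero ρ).symm) (u := 16 * u) (by rw [i]; decide +kernel)
  have s2 := h.sd.aas ab e j
  rw [← a1, show a * ee ρ (16 * u) * a⁻¹ * (a * b) = a * (ee ρ (16 * u) * b) by group] at s2
  refine ⟨a, ee ρ (16 * u) * b, h, aa, s1, ?_, a1, h.sd.aaW b1 hu⟩
  rw [← inv_eq_of_mul_eq_one_right s2, mul_inv_rev, ai, inv_eq_of_mul_eq_one_right s1]

end Cfsg.Agent.HQ
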