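import Cfsg.Agent.HQ.C
import Cfsg.Agent.GF.Main

/-! # Standard subgroups `2².L3(4)`: inner fusion exists -/

set_option autoImplicit false
set_option linter.unusedVariables false
set_option linter.unusedSectionVars false
set_option maxRecDepth 100000
set_option synthInstance.maxSize 100000
set_option synthInstance.maxHeartbeats 400000

namespace Cfsg.Agent.HQ
open Subgroup Cfsg.Agent.Spor Cfsg.Agent.Spor.OnD Cfsg.Agent.H8On Cfsg.Agent.BG Cfsg.Agent.Inv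
open Cfsg.Agent.SO (Ac cr cr_apply cr_range ac_inn ac_K ac_of_K N_le_NC' mem_K β_xor β_inj idx_cen)

variable {G : Type*} [Group G] [Finite G] {ρ : U →* G} {g a b : G}

namespace Out
theorem D1 : ∀ b < 64, ∀ d < 3, d ≠ 0 → sqc b d % 64 = 0 → ∃ p < 256, (μ p p = 0 ∧ p % 64 ≠ 0 ∧ al b d p = p) ∧
    ∃ q < 256, (μ q q = 0 ∧ q % 64 ≠ 0 ∧ al b d q = q) ∧ μ p q = μ q p ∧ μ p q % 64 ≠ 0 := by decide +kernel
theorem D2 : ∀ b < 64, ∀ d < 3, d ≠ 0 → sqc b d % 64 = 0 → ∀ n < 256, μ n n = 0 → n % 64 ≠ 0 → al b d n = n →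
    ∃ m < 256, μ (μ m n) (al b d (iv m)) = 0 := by decide +kernel

/-- no inner fusion -/
def NI (M : Subgroup G) : Prop := ∀ y ∉ N[M], ∀ u ∈ C[M], u * u = 1 → In M (y * u * y⁻¹) → u = 1

/-- two conjugate standard subgroups without inner fusion -/
structure Pr (M M' : Subgroup G) : Prop where
  ni : ∀ s ∈ C[M'], s * s = 1 → In M s → s = 1
  fg : ¬ ZZ M ≤ N[M']

variable {ρ' : U →* G} {M M' : Subgroup G} {s t y : G} {x : U} {d : ℕ}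

theorem NI.ni (n : NI ρ.range) (hy : y ∉ N[ρ.range]) (s : G) (i : s ∈ C[(cr y ρ).range]) (e : s * s = 1)
    (q : In ρ.range s) : s = 1 := by
  have := n y hy _ (mem_K_cr.1 i) (by rw [show y⁻¹ * s * y * (y⁻¹ * s * y) = y⁻¹ * (s * s) * y by group, e]; simp)
    (by simpa [mul_assoc] using q)
  rw [show s = y * (y⁻¹ * s * y) * y⁻¹ by group, this]; simp

theorem NI.ni' (n : NI ρ.range) (hy : y ∉ N[ρ.range]) (s : G) (i : s ∈ C[ρ.range]) (e : s * s = 1)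
    (q : In (cr y ρ).range s) : s = 1 := by
  obtain ⟨l, j, k⟩ := q
  refine n y⁻¹ (mt inv_mem_iff.1 hy) s i e ⟨_, mem_cr.1 j, ?_⟩
  convert mem_K_cr.1 k using 1; group

theorem NI.pr (h : Sd ρ) (n : NI ρ.range) (hy : y ∉ N[ρ.range]) :
    Pr ρ.range (cr y ρ).range ∧ Pr (cr y ρ).range ρ.range := by
  have e : cr y⁻¹ (cr y ρ) = ρ := by ext; simp [cr_apply, mul_assoc]
  refine ⟨⟨n.ni hy, fun l => h.fg hy l fun t i => n.ni' hy t i.2 (h.ZZ_sq i)⟩, n.ni' hy, fun l => ?_⟩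
  refine (h.cj y).fg (y := y⁻¹) (fun i => hy ?_) (e.symm ▸ l) fun t i q => n.ni hy t i.2 ((h.cj y).ZZ_sq i) (e ▸ q)
  simpa using mem_N_cr.1 i

/-- involutions of `K'` act on `L` as field or graph automorphisms -/
theorem Pr.d12 (p : Pr ρ.range ρ'.range) (h : Sd ρ) (h' : Sd ρ') (i : s ∈ C[ρ'.range]) (e : s * s = 1) (n : s ≠ 1)
    (q : Ac ρ s x d) (hd : d < 4) : d = 1 ∨ d = 2 := by
  have a : d ≠ 0 := fun l => n (p.ni s i e ((h.in_iff q hd).2 l))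
  have b : d ≠ 3 := by
    rintro rfl
    have c := h.acz q (by omega)
    rw [(c_za4 3 (by omega)).2.1 (by omega), (c_za4 3 (by omega)).1, mul_inv_eq_iff_eq_mul, mul_inv_eq_iff_eq_mul] at c
    have k : ∀ g, s * g = g * s → g ∈ N[ρ'.range] := fun g l => h'.cenN i (ord2_iff.2 ⟨e, n⟩) l.symm
    refine p.fg fun g j => ?_
    obtain ⟨m, hm, m0, rfl⟩ := h.mem_ZZ.1 j
    obtain rfl | rfl | rfl | rfl : m = 0 ∨ m = 64 ∨ m = 128 ∨ m = 192 := by omega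
    · rw [ee_zero]; exact one_mem _
    · exact k _ c.1
    · exact k _ c.2
    · rw [show 192 = μ 64 128 by decide +kernel, h.mul]; exact mul_mem (k _ c.1) (k _ c.2)
  omega

theorem pig2 (e : s * s = 1) : PiG {2} (zpowers s) := pig_zpowers.2 (pie_of_pow Nat.prime_two (by rwa [pow_two]))

/-- the involutions of `K'` in `N` -/
theorem Pr.uq (p : Pr ρ.range ρ'.range) (h : Sd ρ) (h' : Sd ρ') (i : s ∈ ZZ ρ'.range) (n : s ≠ 1) (l : s ∈ N[ρ.range])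
    {κ : G} (j : κ ∈ C[ρ'.range]) (e : κ * κ = 1) (m : κ ∈ N[ρ.range]) : κ ∈ ρ'.range := by
  have c : s * κ = κ * s := mem_C.1 j s i.1
  have s2 := h'.ZZ_sq i
  obtain ⟨ρ'', k, r, q⟩ := h.nf (D := zpowers s ⊔ zpowers κ) (sup_le (zpowers_le.2 l) (zpowers_le.2 m))
    ((pig2 s2).sup_l (pig2 e) (zpowers_le.2 (K_le_N _ (by rw [C_zpowers]; exact mem_C1.2 c.symm))))
  rw [← r] at p
  obtain ⟨b1, -, d1, l1, q1⟩ := q s (mem_sup_left (mem_zpowers s))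
  obtain ⟨b2, -, d2, l2, q2⟩ := q κ (mem_sup_right (mem_zpowers κ))
  by_contra o
  have a1 := p.d12 k h' i.2 s2 n q1 l1
  have a2 := p.d12 k h' j e (by rintro rfl; exact o (one_mem _)) q2 l2
  have a3 := p.d12 k h' (mul_mem i.2 j) (by rw [mul_assoc, ← mul_assoc κ, ← c, mul_assoc, e, mul_one, s2])
    (fun f => o (eq_inv_of_mul_eq_one_right f ▸ inv_mem i.1)) (q1.mul q2 l1 l2) (Nat.xor_lt_two_pow (n := 2) l1 l2)
  rcases a1 with rfl | rfl <;> rcases a2 with rfl | rfl <;> simp at a3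

theorem fin (h : Sd ρ) (h' : Sd ρ') (n : NI ρ.range) (p : Pr ρ.range ρ'.range) (p' : Pr ρ'.range ρ.range)
    (i : s ∈ ZZ ρ'.range) (s1 : s ≠ 1) (l : s ∈ N[ρ.range]) (t1 : t ∈ ZZ ρ.range) (t2 : t ≠ 1) {b c : ℕ}
    (q : Ac ρ' t (τ b) d) (hb : b < 64) (hd : d < 4) (g1 : g ∈ ρ.range) (g2 : g * g = 1) (g3 : g ∉ C[ρ.range])
    (r : Ac ρ' g (τ c) 0) (hc : c < 64) : False := by
  have tt := h.ZZ_sq t1
  have d12 := p'.d12 h' h t1.2 tt t2 q hd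
  have gt : g * t = t * g := mem_C.1 t1.2 g g1
  have ti : t⁻¹ = t := inv_eq_of_mul_eq_one_right tt
  have k1 := (h'.dec2 r hc (pie_of_pow Nat.prime_two (by rwa [pow_two]))).1
  obtain ⟨κ, rfl⟩ : ∃ κ, g = ee ρ' c * κ := ⟨(ee ρ' c)⁻¹ * g, by simp⟩
  rw [inv_mul_cancel_left] at k1
  have kc : ∀ m, ee ρ' m * κ = κ * ee ρ' m := fun m => mem_C.1 k1 _ (ee_mem ρ' m)
  have e2 : ee ρ' (μ c c) * (κ * κ) = 1 := by rw [h'.mul, ← g2, mul_assoc, mul_assoc, ← mul_assoc κ, ← kc, mul_assoc]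
  have k2 : κ * κ = 1 := by
    rwa [c_sq c (by omega) (h'.eeK (eq_inv_of_mul_eq_one_left e2 ▸ inv_mem (mul_mem k1 k1))), ee_zero, one_mul] at e2
  have tN : t ∈ N[ρ'.range] := mem_N_of fun a j => q.nrm j
  have z1 : t * ee ρ' 64 * t⁻¹ = ee ρ' 192 := (c_za4 d hd).2.2 d12 ▸ (h'.acz q (by omega)).1
  have key : ∀ v ∈ C[ρ'.range], v * v = 1 → t * v * t⁻¹ = v → v ∈ ρ'.range := fun v j e f =>
    p.uq h h' i s1 l j e (h.cenN t1.2 (ord2_iff.2 ⟨tt, t2⟩) (mul_inv_eq_iff_eq_mul.1 f).symm)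
  have kL : κ ∈ ρ'.range := by
    obtain ⟨m, hm, m0, e⟩ := h'.mem_ZZ.1 (show t * κ * t⁻¹ * κ⁻¹ ∈ ZZ ρ'.range from ⟨by
      rw [show t * κ * t⁻¹ * κ⁻¹ = (t * ee ρ' c * t⁻¹)⁻¹ * (t * (ee ρ' c * κ)) * t⁻¹ * κ⁻¹ by group, ← gt,
        show ∀ a : G, a * (ee ρ' c * κ * t) * t⁻¹ * κ⁻¹ = a * ee ρ' c by intro; group]
      exact ρ'.range.mul_mem (ρ'.range.inv_mem (q.nrm (ee_mem _ _))) (ee_mem _ _),
      C[ρ'.range].mul_mem (conj_mem (N_le_NC' tN) k1) (C[ρ'.range].inv_mem k1)⟩)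
    have f : t * ee ρ' m * t⁻¹ = ee ρ' m := by
      refine Eq.trans ?_ (inv_eq_of_mul_eq_one_right (h'.ZZ_sq (h'.ee_ZZ m0)))
      rw [← e]
      simp only [mul_inv_rev, ti, inv_eq_of_mul_eq_one_right k2, ← mul_assoc, tt, one_mul]
    rw [mul_inv_eq_iff_eq_mul] at e
    obtain rfl | rfl | rfl | rfl : m = 0 ∨ m = 64 ∨ m = 128 ∨ m = 192 := by omega
    · exact key κ k1 k2 (by rw [e, ee_zero, one_mul])
    · exact absurd (h'.inj (by omega) (by omega) (z1.symm.trans f)) (by omega)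
    · have := key (ee ρ' 64 * κ) (mul_mem (h'.ee_K rfl) k1) (by
        rw [mul_assoc, ← mul_assoc κ, ← kc, mul_assoc, k2, mul_one, h'.sq0 (by decide +kernel)]) (by
        rw [← conj_mul, z1, e, ← mul_assoc, ← h'.mul, show μ 192 128 = 64 by decide +kernel])
      exact (mul_mem_cancel_left (ee_mem _ _)).1 this
    · have z2 : t * ee ρ' 192 * t⁻¹ = ee ρ' 64 := by
        rw [← z1, ti, ← mul_assoc, ← mul_assoc, tt, one_mul, mul_assoc, tt, mul_one]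
      exact absurd (h'.inj (by omega) (by omega) (z2.symm.trans f)) (by omega)
  obtain ⟨m, hm, -, e⟩ := h'.code0 r (mul_mem (ee_mem _ _) kL) hc
  rw [e] at g1 g2 g3 gt
  obtain ⟨v, -, f⟩ := D2 b hb d (by omega) (by omega) (h'.sq1 q hb hd (tt ▸ one_mem _)) m hm (h'.sq0' g2)
    (fun j => g3 (p.ni _ (h'.ee_K j) g2 (in_of_L g1) ▸ one_mem _))
    (h'.inj (al_lt _ _ _) hm (by rw [← h'.al q hb hd, ← gt, mul_inv_cancel_right]))
  have f := congrArg (ee ρ') f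
  rw [h'.mul, h'.mul, ← h'.al q hb hd, h'.iv, ee_zero] at f
  have f' : (ee ρ' v)⁻¹ * t * (ee ρ' v)⁻¹⁻¹ = ee ρ' m * t := by
    calc _ = (ee ρ' v)⁻¹ * (ee ρ' v * ee ρ' m * (t * (ee ρ' v)⁻¹ * t⁻¹)) * t * ee ρ' v := by rw [f]; group
      _ = _ := by group
  refine t2 (n (ee ρ' v)⁻¹ (fun j => g3 ?_) t t1.2 tt (f' ▸ in_of_L (mul_mem g1 t1.1)))
  exact (C[ρ.range].mul_mem_cancel_right t1.2).1 (f' ▸ conj_mem (N_le_NC' j) t1.2)

theorem main (h : Sd ρ) (h' : Sd ρ') (n : NI ρ.range) (p : Pr ρ.range ρ'.range) (p' : Pr ρ'.range ρ.range)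
    (i : s ∈ ZZ ρ'.range) (s1 : s ≠ 1) {b : ℕ} (q : Ac ρ s (τ b) d) (hb : b < 64) (hd : d < 4) : False := by
  have ss := h'.ZZ_sq i
  have d12 := p.d12 h h' i.2 ss s1 q hd
  have l : s ∈ N[ρ.range] := mem_N_of fun a j => q.nrm j
  obtain ⟨ρ1, k, r, f⟩ := h'.nf (D := TT ρ ⊓ C1[s]) (fun g j => h'.cenN i.2 (ord2_iff.2 ⟨ss, s1⟩) (mem_C1.1 j.2))
    (h.pig_TT.of_le inf_le_left)
  rw [← r] at p p' i
  have mD : ∀ m, al b d m = m → ee ρ m ∈ TT ρ ⊓ C1[s] := fun m e =>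
    ⟨h.ee_TT m, mem_C1.2 (mul_inv_eq_iff_eq_mul.1 ((h.al q hb hd m).trans (by rw [e]))).symm⟩
  have tD : ee ρ 128 ∈ TT ρ ⊓ C1[s] := ⟨h.ee_TT _, mem_C1.2 (mul_inv_eq_iff_eq_mul.1
    ((h.acz q (by omega)).2.trans (by rw [(c_za4 d hd).1]))).symm⟩
  have t1 := h.ee_ZZ (n := 128) rfl
  have t2 := h.ne1 (n := 128) (by omega) (by omega)
  have tt := h.ZZ_sq t1
  obtain ⟨b0, l0, d0, m0, q0⟩ := f _ tD
  have a0 := p'.d12 k h t1.2 tt t2 q0 m0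
  have F : ∀ g ∈ TT ρ ⊓ C1[s], g * g = 1 → g ∉ C[ρ.range] → ∀ x e, e < 4 → Ac ρ1 g x e → e ≠ 0 := by
    rintro g j g2 g3 x e - o rfl
    obtain ⟨c, hc, e, he, o'⟩ := f g j
    obtain rfl := (k.uniq o o' (by omega) he).1
    exact fin h k n p p' i s1 l t1 t2 q0 l0 m0 j.1.1 g2 g3 o' hc
  have F' : ∀ g ∈ TT ρ ⊓ C1[s], g * g = 1 → g ∉ C[ρ.range] → ∀ x e, e < 4 → Ac ρ1 g x e → e ≠ 0 ∧ e ≠ d0 :=
    fun g j g2 g3 x e he o => ⟨F g j g2 g3 x e he o, fun a => F _ (mul_mem j tD)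
      (by rw [mul_assoc, ← mul_assoc (ee ρ 128), ← mem_C.1 t1.2 g j.1.1, mul_assoc, tt, mul_one, g2])
      (mt (C[ρ.range].mul_mem_cancel_right t1.2).1 g3) _ _ (Nat.xor_lt_two_pow (n := 2) he m0) (o.mul q0 he m0)
      (by rw [a, Nat.xor_self])⟩
  obtain ⟨u, -, ⟨u1, u2, u3⟩, v, -, ⟨v1, v2, v3⟩, c1, c2⟩ := D1 b hb d (by omega) (by omega)
    (h.sq1 q hb hd (ss ▸ one_mem _))
  obtain ⟨b1, -, d1, m1, q1⟩ := f _ (mD u u3)
  obtain ⟨b2, -, d2, m2, q2⟩ := f _ (mD v v3)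
  have a1 := F' _ (mD u u3) (h.sq0 u1) (mt h.eeK u2) _ _ m1 q1
  have a2 := F' _ (mD v v3) (h.sq0 v1) (mt h.eeK v2) _ _ m2 q2
  have a3 := F' _ (mul_mem (mD u u3) (mD v v3))
    (by rw [mul_assoc, ← mul_assoc (ee ρ v), ← h.comm c1, mul_assoc, h.sq0 v1, mul_one, h.sq0 u1])
    (by rw [← h.mul]; exact mt h.eeK c2) _ _ (Nat.xor_lt_two_pow (n := 2) m1 m2) (q1.mul q2 m1 m2)
  exact (by decide : ∀ d0 < 4, ∀ d1 < 4, ∀ d2 < 4, d0 = 1 ∨ d0 = 2 → d1 ≠ 0 ∧ d1 ≠ d0 → d2 ≠ 0 ∧ d2 ≠ d0 →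
    ¬ (d1 ^^^ d2 ≠ 0 ∧ d1 ^^^ d2 ≠ d0)) d0 m0 d1 m1 d2 m2 a0 a1 a2 a3

theorem ex [IsSimpleGroup G] (hG : ¬ IsMulCommutative G) (h : Sd ρ) :
    ∃ t ∈ ZZ ρ.range, t ≠ 1 ∧ ∃ y ∉ N[ρ.range], y * t * y⁻¹ ∈ N[ρ.range] := by
  by_contra! k
  have k : ∀ t ∈ ZZ ρ.range, t ≠ 1 → ∀ y, y * t * y⁻¹ ∈ N[ρ.range] → y ∈ N[ρ.range] := fun t i n y j =>
    by_contra fun l => k t i n y l j
  have t1 := h.ee_ZZ (n := 128) rfl
  have t2 := h.ne1 (n := 128) (by omega) (by omega)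
  obtain ⟨P, s, l⟩ := syl_superset Nat.prime_two (inf_le_left.trans (normG ρ.range)) h.pig_TT
  have ZT : ZZ ρ.range ≤ P := fun g i => by
    obtain ⟨m, -, -, rfl⟩ := h.mem_ZZ.1 i
    exact l (h.ee_TT m)
  have s' : Syl 2 P ⊤ := Syl.of_norm (s.sub (le_inf le_top (normG P))
    fun y j => k _ t1 t2 y (s.le (conj_mem j.2 (ZT t1)))) Nat.prime_two
  rcases GF.gs' hG s' (A := ZZ ρ.range) (fun e => t2 (mem_bot.1 (e ▸ t1))) (le_C_iff.2 fun a i b j => mem_C.1 j.2 a i.1)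
    ⟨ZT, fun t i y j => (em (t = 1)).elim (fun e => by simpa [e] using one_mem _)
      fun e => ZZ_cj (k t i e y (s.le j)) i⟩ with ⟨H, c⟩ | c
  · obtain ⟨y, e⟩ := isConj_iff.1 (se_isConj c (h.o2 (n := 128) (by omega) (by omega) (by decide +kernel))
      (h.o2 (n := 16) (by omega) (by omega) (by decide +kernel)))
    exact absurd (h.eeK (e ▸ (ZZ_cj (k _ t1 t2 y (e ▸ normG _ (ee_mem ρ 16))) t1).2)) (by omega)
  · exact absurd (h.eeK (n := 16) (c.1 ▸ l (h.ee_TT 16)).2) (by omega)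
end Out
open Out

theorem Sd.inner [IsSimpleGroup G] (hG : ¬ IsMulCommutative G) (h : Sd ρ) :
    ∃ y ∉ N[ρ.range], ∃ s ∈ C[(cr y ρ).range], orderOf s = 2 ∧ In ρ.range s := by
  by_contra! k
  have n : NI ρ.range := fun y i u j e q => by_contra fun l =>
    k y i _ (mem_K_cr.2 (by simpa [mul_assoc] using j)) (by rw [orderOf_conj']; exact ord2_iff.2 ⟨e, l⟩) q
  obtain ⟨t, t1, t2, y, i, j⟩ := ex hG h
  obtain ⟨p, p'⟩ := n.pr h i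
  have s1 : y * t * y⁻¹ ∈ ZZ (cr y ρ).range :=
    ⟨mem_cr.2 (by simpa [mul_assoc] using t1.1), mem_K_cr.2 (by simpa [mul_assoc] using t1.2)⟩
  obtain ⟨ρ0, h0, r, q⟩ := h.nf (zpowers_le.2 j) (pig2 ((h.cj y).ZZ_sq s1))
  obtain ⟨b, hb, d, hd, q⟩ := q _ (mem_zpowers _)
  rw [← r] at n p p'
  exact main h0 (h.cj y) n p p' s1 (by simpa using t2) q hb hd

end Cfsg.Agent.HQ
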