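import Cfsg.Agent.HQ.C
import Cfsg.Agent.BG.Base3

/-! # Standard subgroups `2².L3(4)`: unitary involutions -/

set_option autoImplicit false
set_option linter.unusedVariables false
set_option linter.unusedSectionVars false
set_option maxRecDepth 100000
set_option synthInstance.maxSize 100000
set_option synthInstance.maxHeartbeats 400000

namespace Cfsg.Agent.HQ
open Subgroup Cfsg.Agent.Spor Cfsg.Agent.Spor.OnD Cfsg.Agent.H8On Cfsg.Agent.BG Cfsg.Agent.Inv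
open Cfsg.Agent.SO (Ac cr cr_apply cr_range ac_inn ac_K ac_of_K N_le_NC' mem_K β_xor β_inj idx_cen)

variable {G : Type*} [Group G] [Finite G] {ρ : U →* G} {g a b : G}

theorem c_U0 : ∀ n < 64, ∀ i < 4, al n 3 (64 * i) = 64 * i := by decide +kernel
theorem c_U1 : ∀ b < 64, sqc b 3 % 64 = 0 → ∀ m < 256, al b 3 m = m → m % 64 = 0 ∨ m % 64 = 16 := by decide +kernel
theorem c_U2 : ∀ i < 4, ∀ j < 4, μ (16 + 64 * i) (16 + 64 * j) % 64 = 0 := by decide +kernel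

/-- a `2`-subgroup of `N` centralising a unitary involution -/
theorem Sw.un0 (h : Sw ρ g) {c : G} {n : ℕ} (q : Ac ρ c (τ n) 3) (cc : c * c = 1)
    (cz : ∀ t ∈ ZZ ρ.range, c * t * c⁻¹ = t) {P : Subgroup G} (hP : PiG {2} P) (hc : P ≤ C1[c])
    (hN : P ≤ N[ρ.range]) (cP : c ∈ P) : Nat.card P ≤ 32 ∧ ∃ ρ', Sd ρ' ∧ ρ'.range = ρ.range ∧
      ∀ y ∈ P, In ρ.range y → ∃ m < 256, (m % 64 = 0 ∨ m % 64 = 16) ∧ y = ee ρ' m := by
  obtain ⟨ρ', h', e, r⟩ := h.sd.nf hN hP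
  obtain ⟨b', hb', d', hd', q'⟩ := r c cP
  have d3 : d' = 3 := by
    have := h'.acz' q' (by omega) (by omega) (by omega) (cz _ (e ▸ h'.ee_ZZ (n := 64) rfl))
      (cz _ (e ▸ h'.ee_ZZ (n := 128) rfl))
    refine (c_za d' (by omega) this.1 this.2).resolve_left fun i => ?_
    have := (h.sd.in_iff q (by omega)).1 (e ▸ (h'.in_iff q' hd').2 i)
    omega
  subst d3
  have A : ∀ y ∈ P, In ρ.range y → ∃ m < 256, (m % 64 = 0 ∨ m % 64 = 16) ∧ y = ee ρ' m := fun y i j => by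
    obtain ⟨b, hb, d, hd, a⟩ := r y i
    obtain rfl := (h'.in_iff a hd).1 (e ▸ j)
    obtain ⟨i1, i2⟩ := h'.dec2 a hb (hP.elt i)
    obtain ⟨m, -, -, k⟩ := h'.mem_ZZ.1 ⟨e ▸ h.k2 _ (e ▸ i1) i2, i1⟩
    have k' : y = ee ρ' (μ b m) := by rw [h'.mul, ← k, mul_inv_cancel_left]
    refine ⟨_, μ_lt _ _, c_U1 b' hb' (h'.sq1 q' hb' hd' (by rw [cc]; exact one_mem _)) _ (μ_lt _ _)
      (h'.inj (al_lt _ _ _) (μ_lt _ _) ?_), k'⟩
    rw [← h'.al q' hb' hd', ← k', ← mem_C1.1 (hc i), mul_inv_cancel_right]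
  refine ⟨?_, ρ', h', e, A⟩
  choose b hb d hd a using fun y : P => r y y.2
  have : Nonempty P := ⟨1⟩
  have B : ∀ y : P, ∃ m < 256, (m % 64 = 0 ∨ m % 64 = 16) ∧ (Function.invFun d (d y) : P) * (y : G) = ee ρ' m :=
    fun y => A _ (mul_mem (Subtype.property _) y.2) (by
      have := (a (Function.invFun d (d y))).mul (a y) (hd _) (hd _)
      rw [Function.invFun_eq (f := d) ⟨y, rfl⟩, Nat.xor_self] at this
      exact e ▸ in_of_ac this)
  choose m hm m0 k using B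
  refine (Nat.card_le_card_of_injective (fun y : P => (⟨d y * 8 + m y / 64 * 2 + m y % 64 / 16, by
    have := hd y; have := hm y; have := m0 y; omega⟩ : Fin 32)) fun y y' i => ?_).trans (by simp)
  have i := Fin.mk.inj i
  have := hm y; have := m0 y; have := hm y'; have := m0 y'
  have e1 : d y = d y' := by omega
  have e2 : m y = m y' := by omega
  have := k y
  rw [e1, e2, ← k y'] at this
  exact Subtype.ext (mul_left_cancel this)

theorem Sw.un (h : Sw ρ g) {c : G} {n : ℕ} (hn : n < 64) (q : Ac ρ c (τ n) 3) (cc : c * c = 1) {D : Subgroup G}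
    (hD : PiG {2} D) (hc : D ≤ C1[c]) : Nat.card D ≤ 32 := by
  have cz : ∀ t ∈ ZZ ρ.range, c * t * c⁻¹ = t := fun t i => by
    obtain ⟨m, hm, m0, rfl⟩ := h.sd.mem_ZZ.1 i
    have := c_U0 n hn (m / 64) (by omega)
    rw [show 64 * (m / 64) = m by omega] at this
    rw [h.sd.al q hn (by omega), this]
  have cN : c ∈ N[ρ.range] := mem_normalizer_fintype fun l i => q.nrm i
  have zc : ZZ ρ.range ≤ C1[c] := fun t i => mem_C1.2 (mul_inv_eq_iff_eq_mul.1 (cz t i)).symm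
  obtain ⟨S, hS, l⟩ := syl_superset Nat.prime_two (U := ZZ ρ.range ⊔ zpowers c) (M := C1[c])
    (sup_le zc (zpowers_le.2 (mem_C1_self c))) (PiG.sup_l (pig_of_elts fun t i => pie_of_pow Nat.prime_two (by
      rw [pow_two]; exact h.sd.ZZ_sq i)) (pig_zpowers.2 (pie_of_pow Nat.prime_two (by rwa [pow_two])))
      (zpowers_le.2 (mem_normalizer_fintype fun t i => by rwa [cz t i])))
  refine (hS.card_le hD hc).trans ?_
  have zP : ZZ ρ.range ≤ S ⊓ N[ρ.range] := le_inf (le_sup_left.trans l) fun t i => normG _ i.1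
  obtain ⟨k, ρ', h', e, A⟩ := h.un0 q cc cz (P := S ⊓ N[ρ.range]) (hS.pi.of_le inf_le_left)
    (inf_le_left.trans hS.le) inf_le_right ⟨l (mem_sup_right (mem_zpowers c)), cN⟩
  rcases (inf_le_left : S ⊓ N[ρ.range] ≤ S).eq_or_lt with i | i
  · rwa [i] at k
  obtain ⟨x, ⟨xS, xP⟩, xN⟩ := SetLike.exists_of_lt (Nil.lt_norm hS.pi.nil i)
  have xN : x ∉ N[ρ.range] := fun j => xN ⟨xS, j⟩
  have xN' : x⁻¹ ∉ N[ρ.range] := fun j => xN (by simpa using inv_mem j)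
  refine (h.sd.fg xN (fun t j => mem_N_cr.2 (conj_mem' xP (zP j)).2) fun t j ⟨l', l1, l2⟩ => by_contra fun t1 => ?_).elim
  have z := h.zl x⁻¹ xN' (x⁻¹ * t * x) (mem_K_cr.2 (by simpa [mul_assoc] using j.2))
    (by rw [orderOf_conj'']; exact ord2_iff.2 ⟨h.sd.ZZ_sq j, t1⟩)
    ⟨_, mem_cr.1 l1, by convert mem_K_cr.1 l2 using 1; group⟩
  have h1 := h.sd.cj x⁻¹
  have ti : ∀ n < 256, n % 64 = 0 → n ≠ 0 → ee (cr x⁻¹ ρ) n ∉ C[ρ.range] := fun n hn n0 n1 j =>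
    h1.ne1 hn n1 (h.sd.ti' xN' j (h1.ee_K n0) (h1.ZZ_sq (h1.ee_ZZ n0)))
  have B : ∀ n < 256, n % 64 = 0 → n ≠ 0 → ∃ i < 4, ee (cr x⁻¹ ρ) n = ee ρ' (16 + 64 * i) := fun n hn n0 n1 => by
    obtain ⟨m, hm, m0, j⟩ := A (ee (cr x⁻¹ ρ) n) (conj_mem (inv_mem xP) (zP (h.sd.ee_ZZ n0)))
      (in_of_L (z (h1.ee_ZZ n0)))
    rcases m0 with m0 | m0
    · exact (ti n hn n0 n1 (by rw [j, ← e]; exact h'.ee_K m0)).elim
    · exact ⟨m / 64, by omega, by rw [j]; congr 1; omega⟩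
  obtain ⟨i1, j1, k1⟩ := B 64 (by omega) rfl (by omega)
  obtain ⟨i2, j2, k2⟩ := B 128 (by omega) rfl (by omega)
  refine ti 192 (by omega) rfl (by omega) ?_
  rw [show 192 = μ 64 128 by decide +kernel, h1.mul, k1, k2, ← h'.mul, ← e]
  exact h'.ee_K (c_U2 _ j1 _ j2)

end Cfsg.Agent.HQ
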