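import Cfsg.Agent.HQ.E1
import Cfsg.Agent.HQ.Un
import Cfsg.Agent.SO.TT

/-! # Standard subgroups `2².L3(4)`: the Sylow 2-subgroup -/

set_option autoImplicit false
set_option linter.unusedVariables false
set_option linter.unusedSectionVars false
set_option maxRecDepth 100000
set_option synthInstance.maxSize 100000
set_option synthInstance.maxHeartbeats 400000

namespace Cfsg.Agent.HQ
open Subgroup Cfsg.Agent.Spor Cfsg.Agent.Spor.OnD Cfsg.Agent.H8On Cfsg.Agent.BG Cfsg.Agent.Inv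
open Cfsg.Agent.SO (Ac cr cr_apply cr_range ac_inn ac_K ac_of_K N_le_NC' mem_K β_xor β_inj idx_cen)

variable {G : Type*} [Group G] [Finite G] {ρ : U →* G} {g a b x y : G} {R : Subgroup G} {φ ψ : ℕ → ℕ}
  {p q r s : ℕ}

def Fn (ρ : U →* G) (x : G) (φ : ℕ → ℕ) : Prop := ∀ n, x * ee ρ n * x⁻¹ = ee ρ (φ n)
theorem Fn.mul (h : Fn ρ x φ) (h' : Fn ρ y ψ) : Fn ρ (x * y) fun n => φ (ψ n) := fun n => by
  rw [← h, ← h']; group
def N3 (φ : ℕ → ℕ) (j : ℕ) : Prop := φ (φ (φ j)) = j → φ j % 256 = j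
instance instDecN3 (φ : ℕ → ℕ) (j : ℕ) : Decidable (N3 φ j) := by unfold N3; infer_instance
theorem Fn.n3 (h : Fn ρ x φ) (hs : Sd ρ) (h2 : PiE {2} x) {j : ℕ} (hj : j < 256) : N3 φ j := fun e => by
  have c : x ^ 3 ∈ C1[ee ρ j] := mem_C1.2 (by
    rw [← mul_inv_eq_iff_eq_mul]
    conv_rhs => rw [← e, ← h, ← h, ← h]
    simp [pow_succ, mul_assoc])
  have m : x ∈ zpowers (x ^ 3) := mem_zpowers_pow_iff.2
    ((Nat.Prime.coprime_iff_not_dvd Nat.prime_three).2 fun i => by have := h2.eq_prime Nat.prime_three i; omega)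
  exact hs.inj (Nat.mod_lt _ (by omega)) hj (by
    rw [hs.ee_mod, ← h, mem_C1.1 (zpowers_le.2 c m), mul_inv_cancel_right])

theorem s_A : ∀ p < 4, ∀ q < 4, ∀ r < 16, ∀ s < 16, V1 p q → V2 r s → N3 (Act p q r s) 1 → N3 (Act p q r s) 4 →
    N3 (fun n => Act p q r s (ac 3 n)) 1 → N3 (fun n => Act p q r s (ac 3 n)) 2 →
    N3 (fun n => Act p q r s (ac 3 n)) 4 → N3 (fun n => Act p q r s (ac 3 n)) 8 → p = 1 ∧ r = 4 ∧
    ∃ i < 4, Act p q r s (ac i 1) = 1 ∧ Act p q r s (ac i 2) = 2 ∧ Act p q r s (ac i 4) = 4 ∧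
      Act p q r s (ac i 8) = 8 := by decide +kernel
theorem s_B : ∀ p < 16, ∀ q < 16, ∀ r < 4, ∀ s < 4, V2 p q → V1 r s → ∀ i < 3,
    V1 (Act p q r s (ac i (Act p q r s 1))) (Act p q r s (ac i (Act p q r s 2))) ∧
    V2 (Act p q r s (ac i (Act p q r s 4))) (Act p q r s (ac i (Act p q r s 8))) := by decide +kernel
theorem s_C : ∀ p < 16, ∀ q < 16, ∀ r < 4, ∀ s < 4, V2 p q → V1 r s →
    (∀ i < 3, Act p q r s (ac i (Act p q r s 1)) = 1 ∧ Act p q r s (ac i (Act p q r s 4)) = 4) →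
    ∃ i < 4, Act p q r s (ac i 1) = 4 ∧ Act p q r s (ac i 2) = 8 ∧ Act p q r s (ac i 4) = 1 ∧
      Act p q r s (ac i 8) = 2 := by decide +kernel
theorem s_bt : ∀ n < 256, Act 4 8 1 2 n = bt 1 n := by decide +kernel
theorem s_D : ∀ b < 64, ∀ d < 3, d ≠ 0 → al b d 1 = 4 → al b d 2 = 8 → al b d 4 = 1 → al b d 8 = 2 →
    sqc b d % 64 = 0 := by decide +kernel
theorem s_E : ∀ n < 256, n % 64 = 0 → bt 1 n = n → n = 0 ∨ n = 128 := by decide +kernel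
theorem s_F : ∀ b < 64, al b 0 32 = 32 := by decide +kernel
theorem s_G : ∀ n < 1024, μ (μ n (ac (n / 256) 144)) (iv n) = 144 ∧
    (μ (μ n (ac (n / 256) 128)) (iv n) = 128 ∨ μ (μ n (ac (n / 256) 128)) (iv n) = 16) := by decide +kernel
theorem s_H : ∀ n < 256, n % 16 = 0 → ac 1 n = n → ac 2 n = n → n = 0 ∨ n = 144 := by decide +kernel
theorem s_I : ∀ n < 256, n % 16 = 0 → isX n → (ac 1 n = n ∨ ac 1 n = μ n 144) → (ac 2 n = n ∨ ac 2 n = μ n 144) →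
    n = 16 ∨ n = 128 := by decide +kernel
theorem s_J : ∀ n < 1024, μS n n = 0 → 64 ≤ Nat.count (fun m => μS n m = μS m n) 1024 := by decide +kernel
theorem s_K : ∀ n < 256, n % 16 = 0 → ∀ j < 256, μ n j = μ j n := by decide +kernel

theorem Sd.cT (h : Sd ρ) (q : Fn ρ x φ) (h1 : φ 1 = 1) (h2 : φ 2 = 2) (h4 : φ 4 = 4) (h8 : φ 8 = 8) : x ∈ C[TT ρ] :=
  have f : ∀ j, φ j = j → ee ρ j ∈ C1[x] := fun j e => mem_C1'.2 (by rw [← mul_inv_eq_iff_eq_mul, q, e])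
  mem_C.2 fun t i => mem_C1.1 (h.gen (f 1 h1) (f 2 h2) (f 4 h4) (f 8 h8) i)
theorem Sd.nT' (h : Sd ρ) (q1 : x * ee ρ 128 * x⁻¹ = ee ρ 128) (q2 : x * ee ρ 16 * x⁻¹ = ee ρ 16) : x ∈ N[TT ρ] :=
  mem_N_of fun t i => ⟨conj_mem (h.cenN (h.ee_K (n := 128) rfl) (h.o2 (by omega) (by omega) (by decide +kernel))
    (mul_inv_eq_iff_eq_mul.1 q1)) i.1, mem_C1.2 (by rw [← q2, conj_mul, conj_mul, mem_C1.1 i.2])⟩
theorem Sd.fbt (h : Sd ρ) (q : Ax ρ x 4 8 1 2) : Fn ρ x (HQ.bt 1) := fun n => by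
  rw [q, ← Act_mod, s_bt _ (Nat.mod_lt _ (by omega))]
  congr 1; unfold HQ.bt; congr 2; exact Nat.mod_mod _ _

namespace Ut
variable (h : Ut ρ g a b)
include h

theorem fu {i : ℕ} (hi : i < 4) : Fn ρ (a ^ i * b ^ (i / 2)) (ac i) := h.uac hi
theorem uS (i : ℕ) : a ^ i * b ^ (i / 2) ∈ SS ρ a b :=
  mem_sup_right (mul_mem (pow_mem (subset_closure (by simp)) _) (pow_mem (subset_closure (by simp)) _))
theorem eS (n : ℕ) : ee ρ n ∈ SS ρ a b := mem_sup_left (h.sd.ee_TT n)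
theorem aS : a ∈ SS ρ a b := by simpa using h.uS 1
theorem bS : b ∈ SS ρ a b := mem_sup_right (subset_closure (by simp))
theorem SN : SS ρ a b ≤ N[TT ρ] := fun x i => by
  obtain ⟨n, hn, rfl⟩ := h.mem.1 i
  exact h.sd.nT fun m _ => h.el_cj hn m ▸ h.sd.ee_TT _
theorem cS (i : x ∈ C[TT ρ]) (h2 : PiE {2} x) : x ∈ SS ρ a b := by
  obtain ⟨n, -, -, rfl⟩ := h.sw.cenT i h2
  exact h.eS n

variable (hR : PiG {2} R) (hS : SS ρ a b ≤ R)
include hR hS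

theorem clA (hx : x ∈ R) (f : Ax ρ x p q r s) (v1 : V1 p q) (v2 : V2 r s) : p = 1 ∧ r = 4 ∧ x ∈ SS ρ a b := by
  have f' : Fn ρ x (Act p q r s) := f
  have f3 := f'.mul (h.fu (i := 3) (by omega))
  have m := fun i => mul_mem hx (hS (h.uS i))
  obtain ⟨e1, e2, i, hi, e⟩ := s_A p v1.2.1 q v1.2.2.2.1 r (by have := v2.2.2.2.1; omega) s
    (by have := v2.2.2.2.2.2.1; omega) v1 v2 (f'.n3 h.sd (hR.elt hx) (by omega)) (f'.n3 h.sd (hR.elt hx) (by omega))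
    (f3.n3 h.sd (hR.elt (m 3)) (by omega)) (f3.n3 h.sd (hR.elt (m 3)) (by omega))
    (f3.n3 h.sd (hR.elt (m 3)) (by omega)) (f3.n3 h.sd (hR.elt (m 3)) (by omega))
  have := h.cS (h.sd.cT (f'.mul (h.fu hi)) e.1 e.2.1 e.2.2.1 e.2.2.2) (hR.elt (m i))
  exact ⟨e1, e2, by simpa [mul_assoc] using mul_mem this (inv_mem (h.uS i))⟩

theorem clB (hx : x ∈ R) (hn : x ∈ N[TT ρ]) (k : x ∉ SS ρ a b) :
    ∃ t ∈ TT ρ, ∃ u ∈ SS ρ a b, Ax ρ (t * x * u) 4 8 1 2 := by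
  obtain ⟨m, -, p, q, r, s, f, ⟨v1, v2⟩ | ⟨v2, v1⟩⟩ := h.sw.e1 hn
  · exact absurd (by simpa using mul_mem (inv_mem (h.eS m)) (h.clA hR hS (mul_mem (hS (h.eS m)) hx) f v1 v2).2.2) k
  have f' : Fn ρ (ee ρ m * x) (Act p q r s) := f
  have hx' := mul_mem (hS (h.eS m)) hx
  have l1 : p < 16 := by have := v2.2.2.2.1; omega
  have l2 : q < 16 := by have := v2.2.2.2.2.2.1; omega
  obtain ⟨i, hi, e⟩ := s_C p l1 q l2 r v1.2.1 s v1.2.2.2.1 v2 v1 fun i hi => by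
    have f2 := f'.mul ((h.fu (i := i) (by omega)).mul f')
    have v := s_B p l1 q l2 r v1.2.1 s v1.2.2.2.1 v2 v1 i hi
    have := h.clA hR hS (mul_mem hx' (mul_mem (hS (h.uS i)) hx')) (h.sd.ax (f2 1) (f2 2) (f2 4) (f2 8)) v.1 v.2
    exact ⟨this.1, this.2.1⟩
  have f2 := f'.mul (h.fu hi)
  exact ⟨_, h.sd.ee_TT m, _, h.uS i, h.sd.ax ((f2 1).trans (congrArg _ e.1)) ((f2 2).trans (congrArg _ e.2.1))
    ((f2 4).trans (congrArg _ e.2.2.1)) ((f2 8).trans (congrArg _ e.2.2.2))⟩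

theorem clC (hx : x ∈ R) (hn : x ∈ N[TT ρ]) : x * ee ρ 144 * x⁻¹ = ee ρ 144 ∧
    (x * ee ρ 128 * x⁻¹ = ee ρ 128 ∨ x * ee ρ 128 * x⁻¹ = ee ρ 16) := by
  have f : ∀ x ∈ SS ρ a b, x * ee ρ 144 * x⁻¹ = ee ρ 144 ∧
      (x * ee ρ 128 * x⁻¹ = ee ρ 128 ∨ x * ee ρ 128 * x⁻¹ = ee ρ 16) := fun x i => by
    obtain ⟨n, hn, rfl⟩ := h.mem.1 i
    rw [h.el_cj hn, h.el_cj hn, (s_G n hn).1]
    exact ⟨rfl, (s_G n hn).2.imp (congrArg _) (congrArg _)⟩
  by_cases k : x ∈ SS ρ a b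
  · exact f x k
  obtain ⟨t, ht, u, hu, q⟩ := h.clB hR hS hx hn k
  obtain ⟨j, hj, rfl⟩ := h.sd.mem_TT.1 ht
  have w : ∀ n m, u⁻¹ * ee ρ m * u⁻¹⁻¹ = ee ρ n → n % 16 = 0 → n < 256 → bt 1 n = n → x * ee ρ m * x⁻¹ = ee ρ n :=
    fun n m e1 e2 e3 e4 => by
    have := h.sd.fbt q n
    rw [e4] at this
    calc _ = (ee ρ j)⁻¹ * (ee ρ j * x * u * (u⁻¹ * ee ρ m * u⁻¹⁻¹) * (ee ρ j * x * u)⁻¹) * ee ρ j := by group
      _ = _ := by rw [e1, this, mul_assoc, h.sd.comm (s_K n e3 e2 j hj), inv_mul_cancel_left]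
  have := f _ (inv_mem hu)
  exact ⟨w _ _ this.1 rfl (by omega) (by decide +kernel), this.2.imp (fun i => w _ _ i rfl (by omega) (by decide +kernel))
    fun i => w _ _ i rfl (by omega) (by decide +kernel)⟩

theorem clD (hn : x ∈ N[R ⊓ N[TT ρ]]) : x ∈ N[TT ρ] := by
  have hs := h.sd
  have S0 : SS ρ a b ≤ R ⊓ N[TT ρ] := le_inf hS h.SN
  have f : ∀ e ∈ SS ρ a b, ∀ j, ∀ y, x⁻¹ * e * x * ee ρ j * (x⁻¹ * e * x)⁻¹ = y →
      e * (x * ee ρ j * x⁻¹) * e⁻¹ = x * y * x⁻¹ := fun e _ j y q => by rw [← q]; group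
  have c := fun e (i : e ∈ SS ρ a b) => h.clC hR hS (conj_mem' hn (S0 i)).1 (conj_mem' hn (S0 i)).2
  have p2 : ∀ j, PiE {2} (x * ee ρ j * x⁻¹) := fun j => hR.elt (conj_mem hn (S0 (h.eS j))).1
  have z : x * ee ρ 144 * x⁻¹ = ee ρ 144 := by
    have k := fun e i => f e i _ _ (c e i).1
    obtain ⟨n, hn, e, q⟩ := h.sw.cenT (mem_C.2 fun t i => mul_inv_eq_iff_eq_mul.1 (k t (mem_sup_left i))) (p2 144)
    have k1 := k a h.aS
    have k2 := k b h.bS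
    rw [q, h.a1] at k1
    rw [q, h.a2] at k2
    rcases s_H n hn e (hs.inj (ac_lt _ _) hn k1) (hs.inj (ac_lt _ _) hn k2) with rfl | rfl
    · exact absurd (by simpa [ee_zero] using q) (hs.ne1 (n := 144) (by omega) (by omega))
    · exact q
  have e16 : ee ρ 16 = ee ρ 128 * ee ρ 144 := by rw [← hs.mul, show μ 128 144 = 16 by decide +kernel]
  have k : ∀ e ∈ SS ρ a b, e * (x * ee ρ 128 * x⁻¹) * e⁻¹ = x * ee ρ 128 * x⁻¹ ∨
      e * (x * ee ρ 128 * x⁻¹) * e⁻¹ = x * ee ρ 128 * x⁻¹ * ee ρ 144 := fun e i =>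
    (c e i).2.imp (f e i _ _) fun q => by rw [f e i _ _ q, e16, ← conj_mul, z]
  have y0 := conj_mem hn (S0 (h.eS 128))
  have tx : Tc ρ (x * ee ρ 128 * x⁻¹) := ((h.sw.x0 128 (by omega)).2 (by decide +kernel)).cj x
  generalize hy : x * ee ρ 128 * x⁻¹ = y at k y0 tx
  have k' : ∀ j < 256, isX j → ¬ isX (μ j 144) → ee ρ j ∈ C1[y] := fun j hj i1 i2 => by
    rcases k _ (h.eS j) with q | q
    · exact mem_C1.2 (mul_inv_eq_iff_eq_mul.1 q)
    · refine absurd ((h.sw.x0 _ (μ_lt _ _)).1 ?_) i2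
      have := ((h.sw.x0 j hj).2 i1).cj y⁻¹
      rw [hs.mul]
      convert this using 1
      calc ee ρ j * ee ρ 144 = ee ρ 144 * ee ρ j := (hs.comm (s_K 144 (by omega) rfl j hj)).symm
        _ = y⁻¹ * (y * ee ρ 144) * ee ρ j := by group
        _ = _ := by rw [← q]; group
  have k2 := k' 2 (by omega) (by decide +kernel) (by decide +kernel)
  have k3 := k' 3 (by omega) (by decide +kernel) (by decide +kernel)
  have k8 := k' 8 (by omega) (by decide +kernel) (by decide +kernel)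
  have k12 := k' 12 (by omega) (by decide +kernel) (by decide +kernel)
  have e1 : ee ρ 1 = ee ρ 2 * ee ρ 3 := by rw [← hs.mul, show μ 2 3 = 1 by decide +kernel]
  have e4 : ee ρ 4 = ee ρ 8 * ee ρ 12 := by rw [← hs.mul, show μ 8 12 = 4 by decide +kernel]
  obtain ⟨n, hn', e, q⟩ := h.sw.cenT (e := y) (mem_C.2 fun t i => mem_C1.1 (hs.gen
    (e1 ▸ mul_mem k2 k3) k2 (e4 ▸ mul_mem k8 k12) k8 i)) (hR.elt y0.1)
  have k1 := k a h.aS
  have k2 := k b h.bS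
  rw [q, h.a1, ← hs.mul] at k1
  rw [q, h.a2, ← hs.mul] at k2
  rcases s_I n hn' e ((h.sw.x0 n hn').1 (q ▸ tx)) (k1.imp (hs.inj (ac_lt _ _) hn') (hs.inj (ac_lt _ _) (μ_lt _ _)))
    (k2.imp (hs.inj (ac_lt _ _) hn') (hs.inj (ac_lt _ _) (μ_lt _ _))) with rfl | rfl
  · have u : ∀ j, a * x * ee ρ j * (a * x)⁻¹ = a * (x * ee ρ j * x⁻¹) * a⁻¹ := fun j => by group
    have := hs.nT' (x := a * x) (by rw [u, hy, q, h.a1, show ac 1 16 = 128 by decide +kernel])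
      (by
        have e : x * ee ρ 16 * x⁻¹ = ee ρ (μ 16 144) := by
          calc _ = x * ee ρ 128 * x⁻¹ * (x * ee ρ 144 * x⁻¹) := by rw [conj_mul, ← e16]
            _ = _ := by rw [hy, z, q, hs.mul]
        rw [u, e, h.a1, show ac 1 (μ 16 144) = 16 by decide +kernel])
    simpa using mul_mem (inv_mem (h.SN h.aS)) this
  · exact hs.nT' (hy.trans q) (by rw [e16, ← conj_mul, hy, q, z])

theorem clE : R ≤ N[TT ρ] := by
  by_contra k
  have := hR.nil.lt_norm (K := R ⊓ N[TT ρ]) (lt_of_le_of_ne inf_le_left fun e => k (inf_eq_left.1 e))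
  exact this.not_ge fun x i => ⟨i.1, h.clD hR hS i.2⟩

theorem clF (hx : x ∈ R) (q : Ax ρ x 4 8 1 2) : ∃ c, c * c = 1 ∧ Fn ρ c (bt 1) := by
  have hs := h.sd
  have f := hs.fbt q
  have f1 : x * ee ρ 128 * x⁻¹ = ee ρ 128 := by rw [f, show bt 1 128 = 128 by decide +kernel]
  obtain ⟨y, d, hd, r⟩ := hs.act' (hs.cenN (hs.ee_K (n := 128) rfl) (hs.o2 (by omega) (by omega) (by decide +kernel))
    (mul_inv_eq_iff_eq_mul.1 f1))
  have z := hs.acz' r hd (n := 192) (m := 128) (by omega) (by omega)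
    (by rw [f, show bt 1 64 = 192 by decide +kernel]) f1
  have d4 := c_za' d hd z.1 z.2
  obtain ⟨c, hc, r⟩ := hs.std r (by omega) (f 16) (by decide +kernel)
  have u : ∀ j, al c d j = bt 1 j := fun j =>
    hs.inj (al_lt _ _ _) (bt_lt _ _) ((hs.al r hc (by omega) j).symm.trans (f j))
  have s0 := s_D c hc d (by omega) (by omega) ((u 1).trans (by decide +kernel)) ((u 2).trans (by decide +kernel))
    ((u 4).trans (by decide +kernel)) ((u 8).trans (by decide +kernel))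
  obtain ⟨n, hn, -, e⟩ := h.sw.cenT (hs.cT (f.mul f) (by decide +kernel) (by decide +kernel) (by decide +kernel)
    (by decide +kernel)) (hR.elt (mul_mem hx hx))
  have n0 := hs.sq r hc (by omega) (n := n) (e ▸ ac_inn ρ _)
  rcases s_E n hn (by omega) (hs.inj (bt_lt _ _) hn (by rw [← f, ← e]; group)) with rfl | rfl
  · exact ⟨x, by rw [e, ee_zero], f⟩
  · refine ⟨ee ρ 64 * x, ?_, fun j => ?_⟩
    · calc _ = ee ρ 64 * (x * ee ρ 64 * x⁻¹) * (x * x) := by group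
        _ = _ := by rw [f, e, ← hs.mul, ← hs.mul, show μ (μ 64 (bt 1 64)) 128 = 0 by decide +kernel, ee_zero]
    · calc _ = ee ρ 64 * (x * ee ρ j * x⁻¹) * (ee ρ 64)⁻¹ := by group
        _ = _ := by rw [f, ← mem_C.1 (hs.ee_K (n := 64) rfl) _ (ee_mem ρ _), mul_inv_cancel_right]

omit hR hS in
theorem clG {c : G} (f : Fn ρ c (bt 1)) : ∃ n < 64, Ac ρ (a * c * a⁻¹) (τ n) 3 := by
  have hs := h.sd
  have f1 : Fn ρ a (ac 1) := h.a1
  have f3 := f1.mul (f.mul f1)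
  rw [← mul_assoc, show a * c * a = a * c * a⁻¹ by rw [inv_eq_of_mul_eq_one_right h.aa]] at f3
  have u1 := (f3 128).trans (congrArg _ (show _ = 128 by decide +kernel))
  obtain ⟨y, d, hd, r⟩ := hs.act' (hs.cenN (hs.ee_K (n := 128) rfl) (hs.o2 (by omega) (by omega) (by decide +kernel))
    (mul_inv_eq_iff_eq_mul.1 u1))
  have z := hs.acz' r hd (n := 64) (m := 128) (by omega) (by omega)
    ((f3 64).trans (congrArg _ (by decide +kernel))) u1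
  rcases c_za d hd z.1 z.2 with rfl | rfl
  · obtain ⟨c, hc, r⟩ := hs.std r (by omega) (f3 16) (by decide +kernel)
    have := hs.inj (al_lt _ _ _) (ac_lt _ _) ((hs.al r hc (by omega) 32).symm.trans (f3 32))
    rw [s_F c hc] at this
    exact absurd this (by decide +kernel)
  · exact hs.std r (by omega) (f3 16) (by decide +kernel)

omit hR hS in
theorem clH (hx : x ∈ SS ρ a b) (q : x * x = 1) : 64 ≤ Nat.card ↥(SS ρ a b ⊓ C1[x]) := by
  obtain ⟨n, hn, rfl⟩ := h.mem.1 hx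
  have := s_J n hn (h.inj (lt hn hn) (by omega) (by rw [h.mul hn hn, q, h.el_lt (by omega), ee_zero]))
  rw [Nat.count_eq_card_filter_range, ← Nat.card_eq_finsetCard] at this
  refine this.trans (Nat.card_le_card_of_injective (fun m => ⟨el ρ a b m.1, ?_⟩) fun m m' e => ?_)
  · have i := Finset.mem_filter.1 m.2
    have j := Finset.mem_range.1 i.1
    exact ⟨h.mem.2 ⟨_, j, rfl⟩, mem_C1'.2 (by rw [← h.mul hn j, ← h.mul j hn, i.2])⟩
  · exact Subtype.ext (h.inj (Finset.mem_range.1 (Finset.mem_filter.1 m.2).1)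
      (Finset.mem_range.1 (Finset.mem_filter.1 m'.2).1) (congrArg Subtype.val e))

end Ut

theorem Ut.syl [IsSimpleGroup G] (hG : ¬ IsMulCommutative G) (h : Ut ρ g a b) : Syl 2 (SS ρ a b) ⊤ := by
  have p2 : PiG {2} (SS ρ a b) := pig_of_card_pow (n := 10) Nat.prime_two h.card
  obtain ⟨R, hR, hS⟩ := syl_superset Nat.prime_two (le_top (a := SS ρ a b)) p2
  have hN := h.clE hR.pi hS
  by_cases k : R ≤ SS ρ a b
  · exact le_antisymm k hS ▸ hR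
  exfalso
  obtain ⟨x, hx, k⟩ := SetLike.not_le_iff_exists.1 k
  obtain ⟨t, ht, u, hu, q⟩ := h.clB hR.pi hS hx (hN hx) k
  have hc : t * x * u ∈ R := mul_mem (mul_mem (hS (mem_sup_left ht)) hx) (hS hu)
  generalize t * x * u = c at q hc
  have m : ∀ y ∈ R, y ∉ SS ρ a b → c⁻¹ * y ∈ SS ρ a b := fun y i j => by
    obtain ⟨t, ht, u, hu, q'⟩ := h.clB hR.pi hS i (hN i) j
    have := h.cS (x := c⁻¹ * (t * y * u)) (h.sd.cT (φ := id) (fun n => by
      rw [show c⁻¹ * (t * y * u) * ee ρ n * (c⁻¹ * (t * y * u))⁻¹ = c⁻¹ * (t * y * u * ee ρ n * (t * y * u)⁻¹) * c by group,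
        q', ← q]; simp [mul_assoc]) rfl rfl rfl rfl)
      (hR.pi.elt (mul_mem (inv_mem hc) (mul_mem (mul_mem (hS (mem_sup_left ht)) i) (hS hu))))
    have t' : c⁻¹ * t⁻¹ * c ∈ SS ρ a b := mem_sup_left (conj_mem' (hN hc) (inv_mem ht))
    have := mul_mem (mul_mem t' this) (inv_mem hu)
    convert this using 1; group
  obtain ⟨c', cc, f⟩ := h.clF hR.pi hS hc q
  obtain ⟨n, hn, r⟩ := h.clG f
  have c3 : a * c' * a⁻¹ * (a * c' * a⁻¹) = 1 := by rw [conj_mul, cc]; simp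
  obtain ⟨y, -, i, -⟩ := SO.tt hG hR (· ∈ SS ρ a b) (fun x i y j => by
    by_cases k1 : x ∈ SS ρ a b <;> by_cases k2 : y ∈ SS ρ a b
    · simp [k1, k2, mul_mem]
    · simp [k1, k2, mul_mem_cancel_left]
    · simp [k1, k2, mul_mem_cancel_right]
    · have := mul_mem (inv_mem (m _ (inv_mem i) (by simpa using k1))) (m _ j k2)
      simpa [k1, k2, mul_assoc] using this) c3 (pig_bot _) (fun d i => by rw [mem_bot.1 i]; simp)
  have l := h.clH i (by rw [conj_mul, c3]; simp)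
  have := h.sw.un hn r c3 ((p2.of_le (inf_le_left (b := C1[y * (a * c' * a⁻¹) * y⁻¹]))).cj y⁻¹) fun d j => by
    have := (mem_inf.1 (mem_cj_inv.1 j)).2
    rwa [← cj_C1, mem_cj_conj] at this
  rw [card_cj] at this
  omega

end Cfsg.Agent.HQ
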