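import Cfsg.Agent.HQ.Inn
import Cfsg.Agent.HQ.Out
import Cfsg.Agent.HQ.Nt
import Cfsg.Agent.HQ.Syl
import Cfsg.Agent.HQ.Mod
import Cfsg.Agent.HQ.Ex
import Cfsg.Agent.U2.Main

/-! # Standard subgroups `2².L3(4)` in simple groups -/

set_option autoImplicit false
set_option linter.unusedVariables false
set_option linter.unusedSectionVars false
set_option maxRecDepth 100000
set_option synthInstance.maxSize 100000
set_option synthInstance.maxHeartbeats 400000

namespace Cfsg.Agent.HQ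
open Subgroup Cfsg.Agent.Spor Cfsg.Agent.Spor.OnD Cfsg.Agent.H8On Cfsg.Agent.BG Cfsg.Agent.Inv
open Cfsg.Agent.SO (Ac cr cr_apply cr_range ac_inn ac_K ac_of_K N_le_NC' mem_K β_xor β_inj idx_cen)

variable {G : Type*} [Group G] [Finite G] {ρ : U →* G} {M : Subgroup G}

theorem Sd.ex_ord (h : Sd ρ) {p : ℕ} (hp : p.Prime) (h1 : p ∣ 448 * 720) (h2 : ¬ p ∣ 16) :
    ∃ x ∈ ρ.range, orderOf x = p := by
  have := Fact.mk hp
  obtain ⟨y, hy⟩ := exists_prime_orderOf_dvd_card' (G := U) p (cardU ▸ h1)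
  refine ⟨ρ y, ⟨y, rfl⟩, orderOf_eq_prime (by rw [← map_pow, ← hy, pow_orderOf_eq_one, map_one]) fun q => h2 ?_⟩
  have := orderOf_dvd_natCard _ (h.ker' q)
  rwa [hy, card_cen] at this

theorem isoHe [IsSimpleGroup G] (hG : ¬ IsMulCommutative G) (hL : IsStandardSubgroup M)
    {F : Type*} [Field F] [Fintype F] (hF : Fintype.card F = 4) (h4 : IsKleinFour (center M))
    (e : M ⧸ center M ≃* Matrix.ProjectiveSpecialLinearGroup (Fin 3) F) : Cfsg.Spor.IsoHe G := by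
  have := Fintype.ofFinite (GaloisField 2 2)
  have hK : Fintype.card (GaloisField 2 2) = 4 := by
    rw [← Nat.card_eq_fintype_card, GaloisField.card 2 2 (by omega)]; rfl
  obtain ⟨p, hp⟩ := CharP.exists F
  let e' := e.trans (Class.pslCongr (FiniteField.ringEquivOfCardEq (hF.trans hK.symm)))
  obtain ⟨e1⟩ := (exL hK).1
  obtain ⟨ρ, h, rfl⟩ := exists_sd hL h4 (e'.trans e1)
  obtain ⟨y, hy, s, hs, h2, hi⟩ := h.inner hG
  obtain ⟨g, w⟩ := h.sw hy hs h2 hi
  obtain ⟨a, b, u⟩ := w.ut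
  obtain ⟨ι, t⟩ := u.tm (u.syl hG)
  have o1 : orderOf (ee ρ 64) = 2 := h.o2 (by omega) (by omega) (by decide +kernel)
  have o2 : orderOf (ee ρ 128) = 2 := h.o2 (by omega) (by omega) (by decide +kernel)
  rcases t.main with ⟨⟨φ⟩⟩ | ⟨⟨φ⟩⟩ | i
  · obtain ⟨x, hx, o⟩ := h.ex_ord Nat.prime_five (by norm_num) (by norm_num)
    exact (not_L52 φ o o1 (mem_C.1 (h.ee_K rfl) x hx).symm).elim
  · obtain ⟨x, hx, o⟩ := h.ex_ord (p := 7) (by norm_num) (by norm_num) (by norm_num)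
    exact (not_M24 φ o o1 o2 (fun q => by have := h.inj (by omega) (by omega) q; omega)
      (mem_C.1 (h.ee_K rfl) _ (ee_mem ρ 64)) (mem_C.1 (h.ee_K rfl) x hx).symm (mem_C.1 (h.ee_K rfl) x hx).symm).elim
  · exact i

end Cfsg.Agent.HQ
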